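import Mathlib.Algebra.Homology.DerivedCategory.Ext.Map
import Mathlib.Algebra.Homology.DerivedCategory.Ext.ExactSequences
import Mathlib.Algebra.Homology.DerivedCategory.Ext.EnoughInjectives
import Mathlib.CategoryTheory.Abelian.Basic
import Mathlib.CategoryTheory.Preadditive.Injective.Basic
import Mathlib.CategoryTheory.Adjunction.Additive

/-!
# Comparison of `Ext` groups along an exact functor having a left adjoint

`U : A ⥤ B` exact with left adjoint `L`, and `Φ` a class of objects of `B` containing enough objects,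
closed under subobjects, on which `L` is exact.  Then `U` maps injectives to objects acyclic for
`Hom(P, -)`, `P ∈ Φ`, and `Ext^n(Q, F) ≅ Ext^n(P, U F)` whenever this holds for `n = 0`.
-/

set_option autoImplicit false
set_option linter.style.haveILetI false

universe w w' v v' u u'

open CategoryTheory Limits

namespace Groth.Agent.H88.Hom.ExtCompare

variable {B : Type u'} [Category.{v'} B] [Abelian B] [HasExt.{w'} B] [EnoughInjectives B]

open Abelian

/-- Every `Ext` class of positive degree is killed by an epimorphism onto its source. -/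
theorem exists_epi_comp_eq_zero (n : ℕ) : ∀ {P G : B} (x : Ext P G (n + 1)),
    ∃ (P' : B) (p : P' ⟶ P), Epi p ∧ (Ext.mk₀ p).comp x (zero_add _) = 0 := by
  induction n with
  | zero =>
    intro P G x
    let S : ShortComplex B :=
      ShortComplex.mk (Injective.ι G) (cokernel.π (Injective.ι G)) (cokernel.condition _)
    have hS : S.ShortExact :=
      { exact := ShortComplex.exact_of_g_is_cokernel S (cokernelIsCokernel _) }
    obtain ⟨f, hf⟩ := Ext.covariant_sequence_exact₁ P hS x
      (Ext.eq_zero_of_injective _) (show 0 + 1 = 0 + 1 from rfl)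
    obtain ⟨f, rfl⟩ := (Ext.mk₀_bijective P S.X₃).2 f
    refine ⟨pullback f S.g, pullback.fst f S.g, inferInstance, ?_⟩
    rw [← hf, ← Ext.comp_assoc_of_second_deg_zero, Ext.mk₀_comp_mk₀, pullback.condition,
      ← Ext.mk₀_comp_mk₀, Ext.comp_assoc_of_second_deg_zero, hS.comp_extClass, Ext.comp_zero]
  | succ n ih =>
    intro P G x
    let S : ShortComplex B :=
      ShortComplex.mk (Injective.ι G) (cokernel.π (Injective.ι G)) (cokernel.condition _)
    have hS : S.ShortExact :=
      { exact := ShortComplex.exact_of_g_is_cokernel S (cokernelIsCokernel _) }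
    obtain ⟨y, hy⟩ := Ext.covariant_sequence_exact₁ P hS x
      (Ext.eq_zero_of_injective _) (show n + 1 + 1 = n + 1 + 1 from rfl)
    obtain ⟨P', p, hp, hzero⟩ := ih y
    refine ⟨P', p, hp, ?_⟩
    rw [← hy, ← Ext.comp_assoc (Ext.mk₀ p) y hS.extClass (zero_add (n + 1)) rfl (by omega), hzero,
      Ext.zero_comp]

variable {A : Type u} [Category.{v} A] [Abelian A] [HasExt.{w} A] [EnoughInjectives A]
  {L : B ⥤ A} {U : A ⥤ B} (adj : L ⊣ U) (Φ : B → Prop)
  (hΦepi : ∀ X : B, ∃ (P : B) (p : P ⟶ X), Epi p ∧ Φ P)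
  (hΦsub : ∀ {X Y : B} (i : X ⟶ Y) [Mono i], Φ Y → Φ X)
  (hL : ∀ S : ShortComplex B, S.ShortExact → Φ S.X₃ → Mono (L.map S.f))

include adj hL in
omit [HasExt.{w} A] [EnoughInjectives A] in
theorem ext_one_eq_zero {P : B} (hP : Φ P) {I : A} [Injective I] (x : Ext P (U.obj I) 1) :
    x = 0 := by
  let S : ShortComplex B :=
    ShortComplex.mk (Injective.ι (U.obj I)) (cokernel.π (Injective.ι (U.obj I)))
      (cokernel.condition _)
  have hS : S.ShortExact :=
    { exact := ShortComplex.exact_of_g_is_cokernel S (cokernelIsCokernel _) }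
  obtain ⟨f, rfl⟩ := Ext.covariant_sequence_exact₁ P hS x
    (Ext.eq_zero_of_injective _) (show 0 + 1 = 1 from rfl)
  obtain ⟨f, rfl⟩ := (Ext.mk₀_bijective P S.X₃).2 f
  let i : S.X₁ ⟶ pullback f S.g := pullback.lift 0 S.f (by simp)
  have hi : Mono i :=
    haveI : Mono (i ≫ pullback.snd f S.g) := by
      rw [pullback.lift_snd]
      exact hS.mono_f
    mono_of_mono i (pullback.snd f S.g)
  let T : ShortComplex B := ShortComplex.mk i (pullback.fst f S.g) (pullback.lift_fst _ _ _)
  have hT : T.ShortExact := by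
    refine { exact := ?_, mono_f := hi, epi_g := inferInstanceAs (Epi (pullback.fst f S.g)) }
    apply ShortComplex.exact_of_f_is_kernel
    refine KernelFork.IsLimit.ofι' _ _ (fun k hk => ?_)
    have h2 : (k ≫ pullback.snd f S.g) ≫ S.g = 0 := by
      rw [Category.assoc, ← pullback.condition, ← Category.assoc, hk, zero_comp]
    exact ⟨hS.fIsKernel.lift (KernelFork.ofι _ h2), by
      apply pullback.hom_ext
      · rw [Category.assoc, pullback.lift_fst, comp_zero, hk]
      · rw [Category.assoc, pullback.lift_snd]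
        exact Fork.IsLimit.lift_ι _⟩
  haveI : Mono (L.map T.f) := hL T hT hP
  let rA : L.obj T.X₂ ⟶ I := Injective.factorThru (adj.counit.app I) (L.map T.f)
  let r : T.X₂ ⟶ T.X₁ := adj.homEquiv _ _ rA
  have hr : T.f ≫ r = 𝟙 _ := by
    dsimp [r]
    rw [← adj.homEquiv_naturality_left, Injective.comp_factorThru, Adjunction.homEquiv_unit]
    exact adj.right_triangle_components I
  let spl := ShortComplex.Splitting.ofExactOfRetraction T hT.exact r hr hT.epi_g
  have hlift : (spl.s ≫ pullback.snd f S.g) ≫ S.g = f := by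
    rw [Category.assoc, ← pullback.condition, ← Category.assoc]
    exact (congrArg (fun z => z ≫ f) spl.s_g).trans (Category.id_comp f)
  rw [← hlift, ← Ext.mk₀_comp_mk₀, Ext.comp_assoc_of_second_deg_zero, hS.comp_extClass,
    Ext.comp_zero]

include adj hL hΦepi hΦsub in
omit [HasExt.{w} A] [EnoughInjectives A] in
theorem ext_map_injective_eq_zero {I : A} [Injective I] (n : ℕ) :
    ∀ {P : B}, Φ P → ∀ x : Ext P (U.obj I) (n + 1), x = 0 := by
  induction n with
  | zero => exact fun hP x => ext_one_eq_zero adj Φ hL hP x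
  | succ n ih =>
    intro P hP x
    obtain ⟨P₀, p₀, _, hx⟩ := exists_epi_comp_eq_zero (n + 1) x
    obtain ⟨P', q, _, hP'⟩ := hΦepi P₀
    let S : ShortComplex B :=
      ShortComplex.mk (kernel.ι (q ≫ p₀)) (q ≫ p₀) (kernel.condition _)
    haveI : Epi (q ≫ p₀) := epi_comp _ _
    have hS : S.ShortExact :=
      { exact := ShortComplex.exact_of_f_is_kernel S (kernelIsKernel _)
        epi_g := inferInstanceAs (Epi (q ≫ p₀)) }
    have hx' : (Ext.mk₀ S.g).comp x (zero_add _) = 0 := by
      change (Ext.mk₀ (q ≫ p₀)).comp x _ = 0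
      rw [← Ext.mk₀_comp_mk₀, Ext.comp_assoc (Ext.mk₀ q) (Ext.mk₀ p₀) x (zero_add 0)
        (zero_add _) (by omega), hx, Ext.comp_zero]
    obtain ⟨y, hy⟩ := Ext.contravariant_sequence_exact₃ hS (U.obj I) x hx'
      (show 1 + (n + 1) = n + 1 + 1 by omega)
    rw [← hy, ih (hΦsub (kernel.ι (q ≫ p₀)) hP') y, Ext.comp_zero]

include adj hL hΦepi hΦsub in
theorem bijective_comparison [U.Additive] [PreservesFiniteLimits U] [PreservesFiniteColimits U]
    {P : B} (hP : Φ P) {Q : A} (η : P ⟶ U.obj Q)
    (h0 : ∀ M : A, Function.Bijective fun g : Q ⟶ M => η ≫ U.map g) :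
    ∀ (n : ℕ) (F : A), Function.Bijective fun e : Ext Q F n =>
      (Ext.mk₀ η).comp (e.mapExactFunctor U) (zero_add n) := by
  intro n
  induction n with
  | zero =>
    intro F
    have h : (fun e : Ext Q F 0 => (Ext.mk₀ η).comp (e.mapExactFunctor U) (zero_add 0)) =
        (fun g => Ext.mk₀ g) ∘ (fun g => η ≫ U.map g) ∘ (Equiv.ofBijective _
          (Ext.mk₀_bijective Q F)).symm := by
      funext e
      obtain ⟨g, rfl⟩ := (Ext.mk₀_bijective Q F).2 e
      simp [Ext.mapExactFunctor_mk₀]
    rw [h]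
    exact (Ext.mk₀_bijective _ _).comp ((h0 F).comp (Equiv.bijective _))
  | succ n ih =>
    intro F
    let S : ShortComplex A :=
      ShortComplex.mk (Injective.ι F) (cokernel.π (Injective.ι F)) (cokernel.condition _)
    have hS : S.ShortExact :=
      { exact := ShortComplex.exact_of_g_is_cokernel S (cokernelIsCokernel _) }
    have hUS : (S.map U).ShortExact := hS.map_of_exact U
    have hδ : ∀ z : Ext Q S.X₃ n,
        (Ext.mk₀ η).comp ((z.comp hS.extClass rfl).mapExactFunctor U) (zero_add (n + 1)) =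
          ((Ext.mk₀ η).comp (z.mapExactFunctor U) (zero_add n)).comp hUS.extClass rfl := fun z => by
      rw [Ext.mapExactFunctor_comp U z hS.extClass rfl, Ext.mapExactFunctor_extClass U hS]
      exact (Ext.comp_assoc _ _ _ _ _ (by omega)).symm
    constructor
    · let θ : Ext Q F (n + 1) →+ Ext P (U.obj F) (n + 1) :=
        AddMonoidHom.comp (AddMonoidHom.mk' (fun e => (Ext.mk₀ η).comp e (zero_add _))
          (fun _ _ => Ext.comp_add _ _ _ _)) (U.mapExtAddHom Q F (n + 1))
      suffices h : ∀ e : Ext Q F (n + 1),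
          (Ext.mk₀ η).comp (e.mapExactFunctor U) (zero_add _) = 0 → e = 0 from
        (injective_iff_map_eq_zero θ).2 h
      intro e he
      obtain ⟨x, hx⟩ := Ext.covariant_sequence_exact₁ Q hS e (Ext.eq_zero_of_injective _) rfl
      rw [← hx, hδ] at he
      obtain ⟨z, hz⟩ := Ext.covariant_sequence_exact₃ P hUS _ rfl he
      obtain ⟨z', hz'⟩ := (ih S.X₂).2 z
      have : z'.comp (Ext.mk₀ S.g) (add_zero n) = x := (ih S.X₃).1 (by
        simp only [Ext.mapExactFunctor_comp U z' (Ext.mk₀ S.g) (add_zero n),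
          Ext.mapExactFunctor_mk₀]
        rw [← hz, ← hz']
        exact (Ext.comp_assoc _ _ _ _ _ (by omega)).symm)
      rw [← hx, ← this, Ext.comp_assoc_of_second_deg_zero, hS.comp_extClass, Ext.comp_zero]
    · intro y
      obtain ⟨x, hx⟩ := Ext.covariant_sequence_exact₁ P hUS y
        (ext_map_injective_eq_zero adj Φ hΦepi hΦsub hL n hP _) rfl
      obtain ⟨x', hx'⟩ := (ih S.X₃).2 x
      refine ⟨x'.comp hS.extClass rfl, ?_⟩
      simp only at hx' ⊢
      rw [hδ x', hx']
      exact hx

end Groth.Agent.H88.Hom.ExtCompare
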