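import Groth.Agent.Lib.DerivedAdj.Exact
import Mathlib.Algebra.Homology.DerivedCategory.ExactFunctor
import Mathlib.CategoryTheory.Localization.Adjunction
import Mathlib.CategoryTheory.Adjunction.FullyFaithful

/-!
An exact fully faithful right adjoint of an exact functor induces a fully faithful functor on derived
categories; its essential image is detected on cohomology objects.
-/

set_option autoImplicit false
set_option linter.style.haveILetI false

universe w₁ w₂ v₁ v₂ u₁ u₂

open CategoryTheory CategoryTheory.Limits HomologicalComplex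

noncomputable section

namespace Groth.Agent.H88.Hom.DerivedFF

variable {C : Type u₁} [Category.{v₁} C] [Abelian C] {D : Type u₂} [Category.{v₂} D] [Abelian D]
  [HasDerivedCategory.{w₁} C] [HasDerivedCategory.{w₂} D]
  {L : C ⥤ D} {R : D ⥤ C} (adj : L ⊣ R) [L.Additive] [R.Additive]
  [PreservesFiniteLimits L] [PreservesFiniteColimits L]
  [PreservesFiniteLimits R] [PreservesFiniteColimits R]

/-- The adjunction on derived categories. -/
def adjD : L.mapDerivedCategory ⊣ R.mapDerivedCategory :=
  letI : CatCommSq (L.mapHomologicalComplex (ComplexShape.up ℤ)) DerivedCategory.Q DerivedCategory.Q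
      L.mapDerivedCategory := ⟨L.mapDerivedCategoryFactors.symm⟩
  letI : CatCommSq (R.mapHomologicalComplex (ComplexShape.up ℤ)) DerivedCategory.Q DerivedCategory.Q
      R.mapDerivedCategory := ⟨R.mapDerivedCategoryFactors.symm⟩
  (Groth.Agent.Lib.DerivedAdj.Exact.adjCx adj).localization
    DerivedCategory.Q (HomologicalComplex.quasiIso C (ComplexShape.up ℤ))
    DerivedCategory.Q (HomologicalComplex.quasiIso D (ComplexShape.up ℤ))
    L.mapDerivedCategory R.mapDerivedCategory

theorem isIso_counit (h : IsIso adj.counit) : IsIso (adjD adj).counit := by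
  refine @NatIso.isIso_of_isIso_app _ _ _ _ _ _ _ fun Y => ?_
  rw [← NatTrans.isIso_app_iff_of_iso _ (DerivedCategory.Q.objObjPreimageIso Y)]
  unfold adjD
  rw [Adjunction.localization_counit_app]
  haveI : IsIso ((Groth.Agent.Lib.DerivedAdj.Exact.adjCx adj).counit.app
      (DerivedCategory.Q.objPreimage Y)) := by
    haveI : ∀ n, IsIso (((Groth.Agent.Lib.DerivedAdj.Exact.adjCx adj).counit.app
        (DerivedCategory.Q.objPreimage Y)).f n) := fun n =>
      inferInstanceAs (IsIso (adj.counit.app ((DerivedCategory.Q.objPreimage Y).X n)))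
    exact Hom.isIso_of_components _
  infer_instance

theorem full_and_faithful (h : IsIso adj.counit) :
    R.mapDerivedCategory.Full ∧ R.mapDerivedCategory.Faithful :=
  haveI := isIso_counit adj h
  ⟨(adjD adj).fullyFaithfulROfIsIsoCounit.full, (adjD adj).fullyFaithfulROfIsIsoCounit.faithful⟩

omit [HasDerivedCategory.{w₁} C] [HasDerivedCategory.{w₂} D] in
theorem quasiIsoAt_unit_iff (K : CochainComplex C ℤ) (n : ℤ) :
    QuasiIsoAt ((Groth.Agent.Lib.DerivedAdj.Exact.adjCx adj).unit.app K) n ↔
      IsIso (adj.unit.app (K.homology n)) := by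
  haveI : PreservesFiniteLimits (L ⋙ R) := comp_preservesFiniteLimits L R
  haveI : PreservesFiniteColimits (L ⋙ R) := comp_preservesFiniteColimits L R
  haveI : (L ⋙ R).PreservesHomology := inferInstance
  rw [quasiIsoAt_iff_isIso_homologyMap]
  change IsIso (ShortComplex.homologyMap ((K.sc n).mapNatTrans adj.unit)) ↔
    IsIso (adj.unit.app (K.sc n).homology)
  rw [adj.unit.app_homology (K.sc n)]
  refine ⟨fun _ => inferInstance, fun h => ?_⟩
  have h' : IsIso (ShortComplex.homologyMap ((K.sc n).mapNatTrans adj.unit) ≫
      ((K.sc n).mapHomologyIso (L ⋙ R)).hom) := IsIso.of_isIso_comp_left ((K.sc n).mapHomologyIso (𝟭 C)).inv _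
  exact IsIso.of_isIso_comp_right _ ((K.sc n).mapHomologyIso (L ⋙ R)).hom

theorem essImage_iff (h : IsIso adj.counit) (Y : DerivedCategory C) :
    R.mapDerivedCategory.essImage Y ↔
      ∀ n, R.essImage ((DerivedCategory.homologyFunctor C n).obj Y) := by
  haveI := (full_and_faithful adj h).1
  haveI := (full_and_faithful adj h).2
  haveI := h
  haveI := adj.fullyFaithfulROfIsIsoCounit.full
  haveI := adj.fullyFaithfulROfIsIsoCounit.faithful
  let K := DerivedCategory.Q.objPreimage Y
  let e := DerivedCategory.Q.objObjPreimageIso Y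
  rw [← (adjD adj).isIso_unit_app_iff_mem_essImage, ← NatTrans.isIso_app_iff_of_iso _ e]
  unfold adjD
  rw [Adjunction.localization_unit_app, isIso_comp_right_iff,
    DerivedCategory.isIso_Q_map_iff_quasiIso, quasiIso_iff]
  refine forall_congr' fun n => (quasiIsoAt_unit_iff adj K n).trans ?_
  rw [← adj.isIso_unit_app_iff_mem_essImage]
  exact NatTrans.isIso_app_iff_of_iso adj.unit
    (((DerivedCategory.homologyFunctorFactors C n).app K).symm ≪≫
      (DerivedCategory.homologyFunctor C n).mapIso e)

end Groth.Agent.H88.Hom.DerivedFF
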