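import Groth.Agent.Lib.DerCat.KInjExists
import Mathlib.Algebra.Homology.DerivedCategory.KInjective
import Mathlib.Algebra.Homology.DerivedCategory.Fractions
import Mathlib.CategoryTheory.Sites.Grothendieck
import Mathlib.Algebra.Homology.DerivedCategory.HomologySequence
import Mathlib.Algebra.Homology.HomotopyCategory.SingleFunctors
import Mathlib.CategoryTheory.Generator.Basic
import Mathlib.Algebra.Homology.SingleHomology

/-!
A cohomology object of `M` in the derived category vanishes iff all morphisms from generators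
placed in that degree vanish locally.
-/

universe w v u v' u'

open CategoryTheory CategoryTheory.Limits HomologicalComplex

namespace Groth.Agent.H88.Hom.HomologyCriterion

variable {C : Type u} [Category.{v} C] [Abelian C] [IsGrothendieckAbelian.{v} C]
  [HasDerivedCategory.{w} C]
  {E : Type u'} [Category.{v'} E] (J : GrothendieckTopology E) (Gen : E ⥤ C)

/-- Locally zero maps out of generators are zero. -/
def SeparatedProp : Prop :=
  ∀ (U : E) (A : C) (θ : Gen.obj U ⟶ A) (S : Sieve U), S ∈ J U →
    (∀ (V : E) (g : V ⟶ U), S g → Gen.map g ≫ θ = 0) → θ = 0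

/-- Maps out of generators lift locally along epimorphisms. -/
def LiftProp : Prop :=
  ∀ (U : E) {A B : C} (p : A ⟶ B), Epi p → ∀ (θ : Gen.obj U ⟶ B),
    ∃ S ∈ J U, ∀ (V : E) (g : V ⟶ U), S g → ∃ l : Gen.obj V ⟶ A, l ≫ p = Gen.map g ≫ θ

variable {J Gen}

theorem isZero_homology_iff (hsep : SeparatedProp J Gen) (hlift : LiftProp J Gen)
    (hgen : ObjectProperty.IsSeparating (ObjectProperty.ofObj Gen.obj))
    (M : DerivedCategory C) (i : ℤ) :
    IsZero ((DerivedCategory.homologyFunctor C i).obj M) ↔
      ∀ (U : E) (α : DerivedCategory.Q.obj ((single C (ComplexShape.up ℤ) i).obj (Gen.obj U)) ⟶ M),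
        ∃ S ∈ J U, ∀ (V : E) (g : V ⟶ U), S g →
          DerivedCategory.Q.map ((single C (ComplexShape.up ℤ) i).map (Gen.map g)) ≫ α = 0 := by
  obtain ⟨K, ⟨e⟩⟩ : ∃ K, Nonempty (DerivedCategory.Q.obj K ≅ M) :=
    ⟨_, ⟨DerivedCategory.Q.objObjPreimageIso M⟩⟩
  obtain ⟨I, q, hI, hq, -, -⟩ := Lib.DerCat.KInjExists.exists_kInjective_resolution K
  haveI := hI
  haveI := hq
  let e' : DerivedCategory.Q.obj I ≅ M := (asIso (DerivedCategory.Q.map q)).symm ≪≫ e
  have hH : IsZero ((DerivedCategory.homologyFunctor C i).obj M) ↔ I.ExactAt i := by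
    rw [exactAt_iff_isZero_homology]
    exact ((DerivedCategory.homologyFunctor C i).mapIso e'.symm ≪≫
      (DerivedCategory.homologyFunctorFactors C i).app I).isZero_iff
  refine hH.trans ⟨fun hex U α => ?_, fun h => ?_⟩
  · obtain ⟨φ, hφ⟩ : ∃ φ : (single C (ComplexShape.up ℤ) i).obj (Gen.obj U) ⟶ I,
        DerivedCategory.Q.map φ = α ≫ e'.inv := by
      obtain ⟨φ', hφ'⟩ := (CochainComplex.IsKInjective.Qh_map_bijective
        ((HomotopyCategory.quotient C (ComplexShape.up ℤ)).obj
          ((single C (ComplexShape.up ℤ) i).obj (Gen.obj U))) I).2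
        ((DerivedCategory.quotientCompQhIso C).hom.app _ ≫ (α ≫ e'.inv) ≫
          (DerivedCategory.quotientCompQhIso C).inv.app I)
      obtain ⟨φ, rfl⟩ := (HomotopyCategory.quotient C (ComplexShape.up ℤ)).map_surjective φ'
      refine ⟨φ, ?_⟩
      have := (DerivedCategory.quotientCompQhIso C).hom.naturality φ
      rw [Functor.comp_map, hφ'] at this
      simp only [Category.assoc, Iso.inv_hom_id_app, Category.comp_id] at this
      exact ((cancel_epi _).1 this).symm
    obtain ⟨j, rfl⟩ : ∃ j, i = j + 1 := ⟨i - 1, by omega⟩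
    have hz : φ.f (j + 1) ≫ I.d (j + 1) (j + 1 + 1) = 0 := by
      rw [φ.comm]
      exact ((isZero_single_obj_X (ComplexShape.up ℤ) (j + 1) (Gen.obj U) (j + 1 + 1)
        (by omega)).eq_of_tgt ((single C (ComplexShape.up ℤ) (j + 1)).obj (Gen.obj U) |>.d _ _) 0)
        ▸ zero_comp
    rw [exactAt_iff' _ j (j + 1) (j + 1 + 1) (by simp) (by simp),
      ShortComplex.exact_iff_epi_toCycles] at hex
    obtain ⟨S, hS, hS'⟩ := hlift U (I.sc' j (j + 1) (j + 1 + 1)).toCycles hex
      ((I.sc' j (j + 1) (j + 1 + 1)).liftCycles ((singleObjXSelf (ComplexShape.up ℤ) (j + 1) _).inv ≫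
        φ.f (j + 1)) (by
          change ((singleObjXSelf _ _ _).inv ≫ φ.f (j + 1)) ≫ I.d (j + 1) (j + 1 + 1) = 0
          refine (Category.assoc _ _ _).trans ((congrArg (_ ≫ ·) hz).trans comp_zero)))
    refine ⟨S, hS, fun V g hg => ?_⟩
    obtain ⟨l', hl⟩ := hS' V g hg
    let l : Gen.obj V ⟶ I.X j := l'
    have hl' : l ≫ I.d j (j + 1) = Gen.map g ≫ (singleObjXSelf (ComplexShape.up ℤ) (j + 1) _).inv ≫
        φ.f (j + 1) := by
      have := hl =≫ (I.sc' j (j + 1) (j + 1 + 1)).iCycles
      simp only [Category.assoc, ShortComplex.toCycles_i, ShortComplex.liftCycles_i] at this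
      exact this
    let k : Homotopy ((single C (ComplexShape.up ℤ) (j + 1)).map (Gen.map g) ≫ φ) 0 :=
      { hom := fun p q => if hpq : p = j + 1 ∧ q = j then
          eqToHom (show ((single C (ComplexShape.up ℤ) (j + 1)).obj (Gen.obj V)).X p =
            ((single C (ComplexShape.up ℤ) (j + 1)).obj (Gen.obj V)).X (j + 1) by rw [hpq.1]) ≫ (singleObjXSelf (ComplexShape.up ℤ) (j + 1) (Gen.obj V)).hom ≫ l ≫
            eqToHom (show I.X j = I.X q by rw [hpq.2]) else 0
        zero := fun p q hpq => dif_neg fun ⟨h₁, h₂⟩ => hpq (by change q + 1 = p; omega)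
        comm := fun p => by
          by_cases hp : p = j + 1
          · subst hp
            rw [zero_f, add_zero, dNext_eq _ (show (ComplexShape.up ℤ).Rel (j + 1) (j + 1 + 1) from rfl),
              prevD_eq _ (show (ComplexShape.up ℤ).Rel j (j + 1) from rfl)]
            rw [dif_neg (by omega), dif_pos ⟨rfl, rfl⟩, comp_zero, zero_add, eqToHom_refl, eqToHom_refl,
              Category.id_comp, Category.comp_id, Category.assoc, hl']
            simp [single_map_f_self]
          · exact (isZero_single_obj_X (ComplexShape.up ℤ) (j + 1) (Gen.obj V) p hp).eq_of_src _ _ }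
    rw [← cancel_mono e'.inv, zero_comp, Category.assoc, ← hφ, ← Functor.map_comp,
      DerivedCategory.Q_map_eq_of_homotopy C k, Functor.map_zero]
  · rw [exactAt_iff_isZero_homology]
    have hπ : I.homologyπ i = 0 := by
      refine hgen _ _ ?_
      rintro _ ⟨U⟩ θ
      change θ ≫ I.homologyπ i = θ ≫ 0
      rw [comp_zero]
      let φ : (single C (ComplexShape.up ℤ) i).obj (Gen.obj U) ⟶ I :=
        mkHomFromSingle (θ ≫ I.iCycles i) (fun k _ => by
          rw [Category.assoc, iCycles_d, comp_zero])
      obtain ⟨S, hS, hS'⟩ := h U (DerivedCategory.Q.map φ ≫ e'.hom)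
      refine hsep U _ _ S hS fun V g hg => ?_
      have h0 : DerivedCategory.Q.map ((single C (ComplexShape.up ℤ) i).map (Gen.map g) ≫ φ) = 0 := by
        rw [← cancel_mono e'.hom, Functor.map_comp, Category.assoc, hS' V g hg, zero_comp]
      have h1 : homologyMap ((single C (ComplexShape.up ℤ) i).map (Gen.map g) ≫ φ) i = 0 := by
        have hn := (DerivedCategory.homologyFunctorFactors C i).hom.naturality
          ((single C (ComplexShape.up ℤ) i).map (Gen.map g) ≫ φ)
        rw [Functor.comp_map, h0, Functor.map_zero, zero_comp] at hn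
        haveI := ((DerivedCategory.homologyFunctorFactors C i).app
          ((single C (ComplexShape.up ℤ) i).obj (Gen.obj V))).isIso_hom
        exact (cancel_epi ((DerivedCategory.homologyFunctorFactors C i).app _).hom).1
          (hn.symm.trans comp_zero.symm)
      have h2 : cyclesMap ((single C (ComplexShape.up ℤ) i).map (Gen.map g) ≫ φ) i ≫
          I.homologyπ i = 0 := by
        rw [← homologyπ_naturality, h1, comp_zero]
      have h3 : (singleObjCyclesSelfIso (ComplexShape.up ℤ) i (Gen.obj V)).inv ≫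
          cyclesMap ((single C (ComplexShape.up ℤ) i).map (Gen.map g) ≫ φ) i = Gen.map g ≫ θ := by
        rw [← cancel_mono (I.iCycles i), Category.assoc, cyclesMap_i, ← Category.assoc,
          singleObjCyclesSelfIso_inv_iCycles, comp_f]
        simp [single_map_f_self, φ]
      rw [← Category.assoc, ← h3, Category.assoc, h2, comp_zero]
    rw [IsZero.iff_id_eq_zero, ← cancel_epi (I.homologyπ i), hπ, zero_comp, zero_comp]

end Groth.Agent.H88.Hom.HomologyCriterion
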