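import Groth.Agent.Lib.DerivedOX.LeftDerived
import Mathlib.Algebra.Homology.DerivedCategory.Basic

/-!
A functor out of complexes which inverts quasi-isomorphisms between resolved complexes has a left
derived functor, computed by the resolution.
-/

universe w v u v' u'

open CategoryTheory CategoryTheory.Limits HomologicalComplex
open Groth.Agent.Lib.DerivedOX

namespace Groth.Agent.H88.Hom.AdaptedTensor

variable {C : Type u} [Category.{v} C] [Abelian C]
  {R : CochainComplex C ℤ ⥤ CochainComplex C ℤ} (η : R ⟶ 𝟭 _)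
  {F : CochainComplex C ℤ ⥤ CochainComplex C ℤ} [HasDerivedCategory.{w} C]

theorem quasiIso_R_map (hη : ∀ K, QuasiIso (η.app K)) {A B : CochainComplex C ℤ} (f : A ⟶ B)
    [QuasiIso f] : QuasiIso (R.map f) := by
  haveI := hη A
  haveI := hη B
  haveI : QuasiIso (η.app A ≫ (𝟭 (CochainComplex C ℤ)).map f) :=
    quasiIso_comp (φ := η.app A) (φ' := f)
  haveI : QuasiIso (R.map f ≫ η.app B) := by
    rw [η.naturality f]; infer_instance
  exact quasiIso_of_comp_right (R.map f) (η.app B)

theorem isAdapted (hη : ∀ K, QuasiIso (η.app K))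
    (hF : ∀ {A B : CochainComplex C ℤ} (f : R.obj A ⟶ R.obj B), QuasiIso f → QuasiIso (F.map f))
    (hF' : ∀ A, QuasiIso (F.map (η.app (R.obj A)))) :
    LeftDerived.IsAdapted (HomologicalComplex.quasiIso C (ComplexShape.up ℤ))
      (F ⋙ DerivedCategory.Q) R η where
  mem X := (HomologicalComplex.mem_quasiIso_iff _).2 (hη X)
  inverts A B f hf := by
    haveI := (HomologicalComplex.mem_quasiIso_iff _).1 hf
    haveI := hF (R.map f) (quasiIso_R_map η hη f)
    change IsIso (DerivedCategory.Q.map (F.map (R.map f)))
    infer_instance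
  isIso_resolved A := by
    haveI := hF' A
    change IsIso (DerivedCategory.Q.map (F.map (η.app (R.obj A))))
    infer_instance

theorem isIso_Q_map_of_quasiIso {A B : CochainComplex C ℤ} (f : A ⟶ B) (hf : QuasiIso f) :
    IsIso (DerivedCategory.Q.map f) :=
  haveI := hf
  inferInstance

end Groth.Agent.H88.Hom.AdaptedTensor
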