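import Groth.Agent.H88.Hom.DerivedAdjoint
import Groth.Agent.Lib.DerivedOX.LeftRes

/-!
Computing a left derived functor by resolving the other variable.
-/

universe w v u

open CategoryTheory CategoryTheory.Limits

namespace Groth.Agent.H88.Hom.BalancedIso

variable {C : Type u} [Category.{v} C] [Abelian C] [HasDerivedCategory.{w} C]

/-- If `R` is a resolution, `F ⟶ G` is a quasi-isomorphism on resolved objects, `F` preserves
quasi-isomorphisms and `c : Q ⋙ L ⟶ G ⋙ Q` is invertible on resolved objects then `L` is induced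
by `F`. -/
theorem nonempty_iso {R F G : CochainComplex C ℤ ⥤ CochainComplex C ℤ} (η : R ⟶ 𝟭 _) (t : F ⟶ G)
    (L : DerivedCategory C ⥤ DerivedCategory C) (c : DerivedCategory.Q ⋙ L ⟶ G ⋙ DerivedCategory.Q)
    (hη : ∀ K, QuasiIso (η.app K)) (ht : ∀ K, QuasiIso (t.app (R.obj K)))
    (hF : ∀ K, QuasiIso (F.map (η.app K))) (hc : ∀ K, IsIso (c.app (R.obj K))) :
    Nonempty (DerivedCategory.Q ⋙ L ≅ F ⋙ DerivedCategory.Q) := by
  have a : ∀ K, IsIso (L.map (DerivedCategory.Q.map (η.app K))) := fun K =>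
    haveI := hη K
    inferInstance
  have b : ∀ K, IsIso (DerivedCategory.Q.map (t.app (R.obj K))) := fun K =>
    haveI := ht K
    inferInstance
  have d : ∀ K, IsIso (DerivedCategory.Q.map (F.map (η.app K))) := fun K =>
    haveI := hF K
    inferInstance
  refine ⟨(NatIso.ofComponents (fun K =>
    (@asIso _ _ _ _ _ (d K)).symm ≪≫ @asIso _ _ _ _ _ (b K) ≪≫ (@asIso _ _ _ _ _ (hc K)).symm ≪≫
      @asIso _ _ _ _ _ (a K)) ?_).symm⟩
  intro K K' f
  have hk := d K
  have hk' := hc K
  simp only [Iso.trans_hom, Iso.symm_hom, asIso_inv, asIso_hom, Functor.comp_map, Category.assoc]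
  rw [← cancel_epi (DerivedCategory.Q.map (F.map (η.app K)))]
  simp only [IsIso.hom_inv_id_assoc]
  have e1 : DerivedCategory.Q.map (F.map (η.app K)) ≫ DerivedCategory.Q.map (F.map f) =
      DerivedCategory.Q.map (F.map (R.map f)) ≫ DerivedCategory.Q.map (F.map (η.app K')) := by
    rw [← Functor.map_comp, ← Functor.map_comp, ← Functor.map_comp, ← Functor.map_comp, η.naturality]
    rfl
  rw [reassoc_of% e1, IsIso.hom_inv_id_assoc]
  have e2 : DerivedCategory.Q.map (F.map (R.map f)) ≫ DerivedCategory.Q.map (t.app (R.obj K')) =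
      DerivedCategory.Q.map (t.app (R.obj K)) ≫ DerivedCategory.Q.map (G.map (R.map f)) := by
    rw [← Functor.map_comp, ← Functor.map_comp, t.naturality]
  rw [reassoc_of% e2]
  congr 1
  rw [← cancel_epi (c.app (R.obj K)), IsIso.hom_inv_id_assoc]
  have e3 := c.naturality (R.map f)
  simp only [Functor.comp_map] at e3
  rw [← reassoc_of% e3, IsIso.hom_inv_id_assoc, ← Functor.map_comp, ← Functor.map_comp,
    ← Functor.map_comp, ← Functor.map_comp, η.naturality]
  rfl

variable [IsGrothendieckAbelian.{v} C]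

attribute [local instance] preservesBinaryBiproducts_of_preservesBinaryCoproducts

/-- A functor inducing `L` which is cocontinuous and preserves monomorphisms and acyclicity makes
`L` a left adjoint. -/
theorem isLeftAdjoint {L₀ : CochainComplex C ℤ ⥤ CochainComplex C ℤ} [L₀.Additive]
    [PreservesColimitsOfSize.{v, v} L₀]
    (hmono : ∀ {A B : CochainComplex C ℤ} (f : A ⟶ B), (∀ n, Mono (f.f n)) → Mono (L₀.map f))
    (hac : ∀ A : CochainComplex C ℤ, A.Acyclic → (L₀.obj A).Acyclic)
    (L : DerivedCategory C ⥤ DerivedCategory C)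
    (e : Nonempty (DerivedCategory.Q ⋙ L ≅ L₀ ⋙ DerivedCategory.Q)) : L.IsLeftAdjoint :=
  haveI := Lib.DerivedOX.LeftRes.isLeftAdjoint_of_preservesColimits L₀
  DerivedAdjoint.isLeftAdjoint (Adjunction.ofIsLeftAdjoint L₀) hmono hac L e.some

end Groth.Agent.H88.Hom.BalancedIso
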