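import Groth.Agent.Lib.DerivedOX.Bifunctor

/-!
The total complex of two one-term complexes.
-/

universe v u

open CategoryTheory CategoryTheory.Limits HomologicalComplex
open Groth.Agent.Lib.DerivedOX

namespace Groth.Agent.H88.Hom.SingleTensor

variable {C : Type u} [Category.{v} C] [Abelian C] (F : C ⥤ C ⥤ C) [F.Additive]
  [∀ A, (F.obj A).Additive]
  [∀ (K₁ : CochainComplex C ℤ) (K₂ : CochainComplex C ℤ), HasMapBifunctor K₁ K₂ F (.up ℤ)]
  (i j k : ℤ) (h : i + j = k) (A B : C)

include h in
lemma isZero_X (m : ℤ) (hm : m ≠ k) :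
    IsZero ((mapBifunctor ((single C (.up ℤ) i).obj A) ((single C (.up ℤ) j).obj B) F (.up ℤ)).X m) := by
  rw [IsZero.iff_id_eq_zero]
  apply mapBifunctor.hom_ext
  intro p q hpq
  by_cases hp : p = i
  · have hq : q ≠ j := by change p + q = m at hpq; omega
    exact ((F.obj _).map_isZero (isZero_single_obj_X (.up ℤ) j B q hq)).eq_of_src _ _
  · exact ((F.map_isZero (isZero_single_obj_X (.up ℤ) i A p hp)).obj _).eq_of_src _ _

/-- The comparison map from the one-term complex. -/
noncomputable def hom :
    (single C (.up ℤ) k).obj ((F.obj A).obj B) ⟶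
      mapBifunctor ((single C (.up ℤ) i).obj A) ((single C (.up ℤ) j).obj B) F (.up ℤ) :=
  mkHomFromSingle ((F.obj A).map (singleObjXSelf (.up ℤ) j B).inv ≫
      Bifunctor.singleHom₁ F A i ((single C (.up ℤ) j).obj B) k j h)
    fun m hm => (isZero_X F i j k h A B m (by
      change k + 1 = m at hm
      omega)).eq_of_tgt _ _

lemma hom_f_self : (hom F i j k h A B).f k = (singleObjXSelf (.up ℤ) k ((F.obj A).obj B)).hom ≫
    (F.obj A).map (singleObjXSelf (.up ℤ) j B).inv ≫
      Bifunctor.singleHom₁ F A i ((single C (.up ℤ) j).obj B) k j h := by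
  simp [hom]

instance isIso_hom : IsIso (hom F i j k h A B) := by
  have : ∀ m, IsIso ((hom F i j k h A B).f m) := fun m => by
    by_cases hm : m = k
    · subst hm
      rw [hom_f_self]
      haveI := Bifunctor.isIso_singleHom₁ F A i ((single C (.up ℤ) j).obj B) m j h
      infer_instance
    · exact ⟨0, (isZero_single_obj_X _ _ _ _ hm).eq_of_src _ _,
        (isZero_X F i j k h A B m hm).eq_of_src _ _⟩
  exact HomologicalComplex.Hom.isIso_of_components _

variable {A} {A' : C}

lemma hom_naturality (f : A ⟶ A') :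
    (single C (.up ℤ) k).map ((F.map f).app B) ≫ hom F i j k h A' B =
      hom F i j k h A B ≫ mapBifunctorMap ((single C (.up ℤ) i).map f)
        (𝟙 ((single C (.up ℤ) j).obj B)) F (.up ℤ) := by
  apply HomologicalComplex.from_single_hom_ext
  simp only [comp_f, hom_f_self, single_map_f_self, Category.assoc, Iso.inv_hom_id_assoc,
    Bifunctor.singleHom₁, ι_mapBifunctorMap, HomologicalComplex.id_f,
    CategoryTheory.Functor.map_id, Category.id_comp, Category.comp_id]
  simp only [← NatTrans.comp_app_assoc, ← Functor.map_comp, Category.assoc, Iso.inv_hom_id,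
    Category.comp_id, NatTrans.naturality_assoc, Iso.inv_hom_id_assoc]

/-- The isomorphism. -/
noncomputable def iso (A : C) : (single C (.up ℤ) k).obj ((F.obj A).obj B) ≅
    mapBifunctor ((single C (.up ℤ) i).obj A) ((single C (.up ℤ) j).obj B) F (.up ℤ) :=
  asIso (hom F i j k h A B)

end Groth.Agent.H88.Hom.SingleTensor
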