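import Groth.Agent.H88.Hom.LocallyZero
import Groth.Agent.Lib.DerivedOX.LeftRes
import Groth.Agent.H88.Hom.HomologyCriterion
import Groth.Agent.H88.Hom.SingleTensor

/-!
Generic part of the local description of the cohomology of an internal derived Hom.
-/

universe w v u v' u'

open CategoryTheory CategoryTheory.Limits HomologicalComplex
open Groth.Agent.Lib.DerivedOX Groth.Agent.Lib.DerivedOX.TrivCof
  Groth.Agent.Lib.DerivedOX.LeftRes
open ZeroObject

namespace Groth.Agent.H88.Hom.DualCriterion

variable {C : Type u} [Category.{v} C] [Abelian C] [IsGrothendieckAbelian.{v} C]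

section Cof

variable {ι : Type v} {G : ι → C}

/-- One-term complexes on generators are cofibrant. -/
theorem cof_single (a : ι) (n : ℤ) :
    cof G (0 : (0 : CochainComplex C ℤ) ⟶ (single C (.up ℤ) n).obj (G a)) := by
  have hz : ∀ (b : ι) (m : ℤ),
      cof G (0 : (0 : CochainComplex C ℤ) ⟶ disk (G b) m) := fun b m =>
    MorphismProperty.le_llp_rlp _ _ ⟨Sum.inl (b, m)⟩
  intro A B p hp
  refine ⟨fun {f g} sq => ?_⟩
  -- lift `g` through the disk, then correct on the upper end
  have h0 : f = 0 := (isZero_zero _).eq_of_src _ _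
  let j : disk (G a) n ⟶ (single C (.up ℤ) n).obj (G a) :=
    mkHomToSingle (diskIso₀ (G a) n).hom (fun k hk => by
      obtain rfl : k = n - 1 := by simp only [ComplexShape.up_Rel] at hk; omega
      exact ((disk_isZero _ n (n - 1) (by omega) (by omega)).eq_of_src _ _))
  have hj : singleToDisk (G a) n ≫ j = 0 := by
    apply HomologicalComplex.from_single_hom_ext
    exact (isZero_single_obj_X (ComplexShape.up ℤ) n (G a) (n + 1) (by omega)).eq_of_tgt _ _
  haveI : HasLiftingProperty (0 : (0 : CochainComplex C ℤ) ⟶ disk (G a) n) p := hz a n p hp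
  have sq₁ : CommSq (0 : (0 : CochainComplex C ℤ) ⟶ A) (0 : 0 ⟶ disk (G a) n) p (j ≫ g) := ⟨by simp⟩
  haveI : HasLiftingProperty (singleToDisk (G a) n) p := hp _ ⟨Sum.inr (a, n)⟩
  have sq₂ : CommSq (0 : (single C (.up ℤ) (n + 1)).obj (G a) ⟶ A) (singleToDisk (G a) n) p (j ≫ g) :=
    ⟨by rw [zero_comp, ← Category.assoc, hj, zero_comp]⟩
  let l := sq₂.lift
  have hl₁ : singleToDisk (G a) n ≫ l = 0 := sq₂.fac_left
  have hl₂ : l ≫ p = j ≫ g := sq₂.fac_right
  have e1 : l.f (n + 1) = 0 := by
    have h1 := congrArg (fun φ => HomologicalComplex.Hom.f φ (n + 1)) hl₁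
    simp only [comp_f, zero_f] at h1
    haveI : IsIso ((singleToDisk (G a) n).f (n + 1)) := by
      simp [singleToDisk]
      infer_instance
    exact (cancel_epi ((singleToDisk (G a) n).f (n + 1))).1 (h1.trans comp_zero.symm)
  refine ⟨⟨{ l := mkHomFromSingle ((diskIso₀ (G a) n).inv ≫ l.f n) ?_, fac_left := ?_, fac_right := ?_ }⟩⟩
  · intro k hk
    obtain rfl : k = n + 1 := by simp only [ComplexShape.up_Rel] at hk; omega
    rw [Category.assoc, l.comm, e1, comp_zero, comp_zero]
  · exact (isZero_zero _).eq_of_src _ _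
  · apply HomologicalComplex.from_single_hom_ext
    have e2 := congrArg (fun φ => HomologicalComplex.Hom.f φ n) hl₂
    simp only [comp_f] at e2 ⊢
    rw [mkHomFromSingle_f, Category.assoc, Category.assoc, e2]
    simp [j]

end Cof

variable [HasDerivedCategory.{w} C] {E : Type u'} [Category.{v'} E] {J : GrothendieckTopology E}
  {Gen : E ⥤ C}
  (B : CochainComplex C ℤ ⥤ CochainComplex C ℤ ⥤ CochainComplex C ℤ)

/-- The functors `U ↦ (Gen U [-i] ⊗ -)`. -/
noncomputable abbrev T (Gen : E ⥤ C) (i : ℤ) : E ⥤ CochainComplex C ℤ ⥤ CochainComplex C ℤ :=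
  Gen ⋙ single C (.up ℤ) i ⋙ B

variable {B}

/-- If `L` agrees with `- ⊗ F` on the generators and has a right adjoint `R`, cohomology of `R K`
vanishes in degree `i` iff morphisms `Gen U [-i] ⊗ F ⟶ K` vanish locally. -/
theorem isZero_homology_rightAdjoint_iff (hsep : HomologyCriterion.SeparatedProp J Gen)
    (hlift : HomologyCriterion.LiftProp J Gen)
    (hgen : ObjectProperty.IsSeparating (ObjectProperty.ofObj Gen.obj))
    {F : CochainComplex C ℤ} {L R : DerivedCategory C ⥤ DerivedCategory C} (adj : L ⊣ R)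
    (c : DerivedCategory.Q ⋙ L ⟶ B.flip.obj F ⋙ DerivedCategory.Q)
    (hc : ∀ (U : E) (i : ℤ), IsIso (c.app ((single C (.up ℤ) i).obj (Gen.obj U))))
    (K : DerivedCategory C) (i : ℤ) :
    IsZero ((DerivedCategory.homologyFunctor C i).obj (R.obj K)) ↔
      LocallyZero.LZ J (T B Gen i) K F := by
  rw [HomologyCriterion.isZero_homology_iff hsep hlift hgen]
  refine forall_congr' fun U => ?_
  haveI := hc U i
  let e := ((adj.homEquiv (DerivedCategory.Q.obj ((single C (.up ℤ) i).obj (Gen.obj U))) K).symm.trans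
    ((asIso (c.app ((single C (.up ℤ) i).obj (Gen.obj U)))).homFromEquiv))
  refine e.forall_congr fun {α} => ?_
  refine exists_congr fun S => and_congr_right fun _ => forall_congr' fun V => forall_congr' fun g =>
    imp_congr_right fun _ => ?_
  haveI := hc V i
  have n := c.naturality ((single C (.up ℤ) i).map (Gen.map g))
  simp only [Functor.comp_map] at n
  change _ ↔ DerivedCategory.Q.map ((B.map ((single C (.up ℤ) i).map (Gen.map g))).app F) ≫
    inv (c.app _) ≫ (adj.homEquiv _ K).symm α = 0
  rw [← cancel_epi (c.app ((single C (.up ℤ) i).obj (Gen.obj V)))]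
  rw [comp_zero, ← Category.assoc]
  erw [← n]
  rw [Category.assoc, IsIso.hom_inv_id_assoc, ← Adjunction.homEquiv_naturality_left_symm]
  haveI := adj.isLeftAdjoint
  haveI := adj.isRightAdjoint
  refine ⟨fun h => ?_, fun h => ?_⟩
  · rw [h, Adjunction.homEquiv_symm_apply, CategoryTheory.Functor.map_zero, zero_comp]
  · have := congrArg ((adj.homEquiv _ K)) h
    rwa [Equiv.apply_symm_apply, Adjunction.homEquiv_apply, CategoryTheory.Functor.map_zero,
      comp_zero] at this

end Groth.Agent.H88.Hom.DualCriterion
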