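import Mathlib.Algebra.Homology.HomologicalComplexAbelian
import Mathlib.Algebra.Homology.HomologicalComplexLimits
import Mathlib.Algebra.Homology.ShortComplex.ExactFunctor

/-!
Right exact functors which preserve termwise monomorphisms preserve short exact sequences of
complexes.
-/

universe v u

open CategoryTheory CategoryTheory.Limits HomologicalComplex

namespace Groth.Agent.H88.Hom.SESMap

variable {C : Type u} [Category.{v} C] [Abelian C]

theorem shortExact_map (F : CochainComplex C ℤ ⥤ CochainComplex C ℤ) [F.Additive]
    [PreservesFiniteColimits F]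
    (hmono : ∀ {A B : CochainComplex C ℤ} (f : A ⟶ B), (∀ n, Mono (f.f n)) → Mono (F.map f))
    {S : ShortComplex (CochainComplex C ℤ)} (hS : S.ShortExact) : (S.map F).ShortExact := by
  have hc : ∀ T : ShortComplex (CochainComplex C ℤ), T.ShortExact →
      (T.map F).Exact ∧ Epi (F.map T.g) :=
    ((Functor.preservesFiniteColimits_tfae F).out 3 0).1 (inferInstance : PreservesFiniteColimits F)
  haveI := hS.mono_f
  exact { exact := (hc S hS).1
          mono_f := hmono S.f fun n => inferInstanceAs (Mono ((eval C (.up ℤ) n).map S.f))
          epi_g := (hc S hS).2 }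

end Groth.Agent.H88.Hom.SESMap
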