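import Groth.Agent.H88.Hom.KFlatGen
import Groth.Agent.H88.Hom.AdaptedTensor
import Groth.Agent.H88.Hom.BalancedIso
import Groth.Agent.H88.Hom.DualCriterion
import Groth.Agent.H88.Hom.SESMap

/-!
The derived functors of the total complex of a biadditive cocontinuous bifunctor `F` on a
Grothendieck abelian category which is exact on a separating family, indexed by a site, and the
local description of the cohomology of its right adjoint.

Everything is stated for abstract `F`, so that specialisations are cheap to type check.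
-/

universe w v u v'

open CategoryTheory CategoryTheory.Limits HomologicalComplex
open ZeroObject
open Groth.Agent.Lib.DerivedOX Groth.Agent.Lib.DerivedOX.TrivCof
  Groth.Agent.Lib.DerivedOX.LeftRes

attribute [local instance] preservesBinaryBiproducts_of_preservesBinaryCoproducts

namespace Groth.Agent.H88.Hom.DerivedTensorGen

variable {C : Type u} [Category.{v} C] [Abelian C] [IsGrothendieckAbelian.{v} C]
  [∀ J : Type, HasColimitsOfShape (Discrete J) C] [HasDerivedCategory.{w} C]
  (F : C ⥤ C ⥤ C) [F.Additive] [∀ A, (F.obj A).Additive]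
  [∀ A, PreservesColimitsOfSize.{v, v} (F.obj A)]
  [∀ A, PreservesColimitsOfSize.{v, v} (F.flip.obj A)]
  {ι : Type v} [Category.{v'} ι] (Gen : ι ⥤ C)
  [∀ i, PreservesFiniteLimits (F.obj (Gen.obj i))]
  [∀ i, PreservesFiniteLimits (F.flip.obj (Gen.obj i))]

/-- `K ↦ Q (K ⊗ E)`. -/
noncomputable abbrev cxQ (E : CochainComplex C ℤ) : CochainComplex C ℤ ⥤ DerivedCategory C :=
  F.map₂CochainComplex.flip.obj E ⋙ DerivedCategory.Q

/-- Tensoring with `K` preserves quasi-isomorphisms. -/
def IsKFlat (K : CochainComplex C ℤ) : Prop :=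
  ∀ {A B : CochainComplex C ℤ} (f : A ⟶ B), QuasiIso f →
    QuasiIso ((F.map₂CochainComplex.obj K).map f)

variable {Gen} (hG : ObjectProperty.IsSeparating (ObjectProperty.ofObj Gen.obj))
include hG

theorem quasiIso_augmentation (K : CochainComplex C ℤ) :
    QuasiIso ((augmentation Gen.obj).app K) :=
  (epi_quasiIso_of_rlp hG _ (augmentation_rlp K)).2

theorem isAdapted (E : CochainComplex C ℤ) :
    LeftDerived.IsAdapted (HomologicalComplex.quasiIso C (ComplexShape.up ℤ)) (cxQ F E)
      (resolution Gen.obj) (augmentation Gen.obj) :=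
  AdaptedTensor.isAdapted (augmentation Gen.obj) (F := F.map₂CochainComplex.flip.obj E)
    (quasiIso_augmentation hG)
    (fun f hf => haveI := hf
      KFlatGen.quasiIso_map_app_of_cof F hG (cof_resolution _) (cof_resolution _) f E)
    (fun A => haveI := quasiIso_augmentation hG ((resolution Gen.obj).obj A)
      KFlatGen.quasiIso_map_app_of_cof F hG (cof_resolution _) (cof_resolution A)
        ((augmentation Gen.obj).app ((resolution Gen.obj).obj A)) E)

theorem hasLeftDerivedFunctor (E : CochainComplex C ℤ) :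
    (cxQ F E).HasLeftDerivedFunctor (HomologicalComplex.quasiIso C (ComplexShape.up ℤ)) :=
  LeftDerived.hasLeftDerivedFunctor (isAdapted F hG E)

theorem isKFlat_of_cof {K : CochainComplex C ℤ} (hK : cof Gen.obj (0 : 0 ⟶ K)) : IsKFlat F K :=
  fun f hf => haveI := hf; KFlatGen.quasiIso_obj_map F hG hK f

theorem quasiIso_aug_tensor {K : CochainComplex C ℤ} (hK : IsKFlat F K) (E : CochainComplex C ℤ) :
    QuasiIso ((F.map₂CochainComplex.map ((augmentation Gen.obj).app K)).app E) := by
  haveI := quasiIso_augmentation hG K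
  haveI := quasiIso_augmentation hG E
  haveI := KFlatGen.quasiIso_map_app F hG (cof_resolution (G := Gen.obj) E)
    ((augmentation Gen.obj).app K)
  haveI := KFlatGen.quasiIso_obj_map F hG (cof_resolution (G := Gen.obj) K)
    ((augmentation Gen.obj).app E)
  haveI : QuasiIso ((F.map₂CochainComplex.obj ((𝟭 (CochainComplex C ℤ)).obj K)).map
      ((augmentation Gen.obj).app E)) := hK ((augmentation Gen.obj).app E) inferInstance
  exact CxLemmas.quasiIso_right_of_square _ _ _ _
    ((F.map₂CochainComplex.map ((augmentation Gen.obj).app K)).naturality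
      ((augmentation Gen.obj).app E))

/-- A left derived functor of `- ⊗ E` agrees with it at K-flat complexes. -/
theorem isIso_counit_app {K : CochainComplex C ℤ} (hK : IsKFlat F K) (E : CochainComplex C ℤ)
    (L : DerivedCategory C ⥤ DerivedCategory C) (α : DerivedCategory.Q ⋙ L ⟶ cxQ F E)
    [L.IsLeftDerivedFunctor α (HomologicalComplex.quasiIso C (ComplexShape.up ℤ))] :
    IsIso (α.app K) := by
  haveI : IsIso ((cxQ F E).map ((augmentation Gen.obj).app K)) :=
    AdaptedTensor.isIso_Q_map_of_quasiIso _ (quasiIso_aug_tensor F hG hK E)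
  exact LeftDerived.isIso_counit_app (isAdapted F hG E) _ L α K

/-- A left derived functor of `- ⊗ E` is induced by tensoring with a resolution of `E`. -/
theorem nonempty_iso (E : CochainComplex C ℤ) (L : DerivedCategory C ⥤ DerivedCategory C)
    (α : DerivedCategory.Q ⋙ L ⟶ cxQ F E)
    [L.IsLeftDerivedFunctor α (HomologicalComplex.quasiIso C (ComplexShape.up ℤ))] :
    Nonempty (DerivedCategory.Q ⋙ L ≅
      F.map₂CochainComplex.flip.obj ((resolution Gen.obj).obj E) ⋙ DerivedCategory.Q) :=
  BalancedIso.nonempty_iso (augmentation Gen.obj)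
    (F.map₂CochainComplex.flip.map ((augmentation Gen.obj).app E)) L α
    (quasiIso_augmentation hG)
    (fun K => haveI := quasiIso_augmentation hG E
      KFlatGen.quasiIso_obj_map F hG (cof_resolution K) ((augmentation Gen.obj).app E))
    (fun K => haveI := quasiIso_augmentation hG K
      KFlatGen.quasiIso_map_app F hG (cof_resolution E) ((augmentation Gen.obj).app K))
    (fun K => isIso_counit_app F hG (isKFlat_of_cof F hG (cof_resolution K)) E L α)

/-- Left derived functors of `- ⊗ E` have right adjoints. -/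
theorem isLeftAdjoint (E : CochainComplex C ℤ) (L : DerivedCategory C ⥤ DerivedCategory C)
    (α : DerivedCategory.Q ⋙ L ⟶ cxQ F E)
    [L.IsLeftDerivedFunctor α (HomologicalComplex.quasiIso C (ComplexShape.up ℤ))] :
    L.IsLeftAdjoint :=
  BalancedIso.isLeftAdjoint
    (L₀ := F.map₂CochainComplex.flip.obj ((resolution Gen.obj).obj E))
    (fun g hg => Bifunctor.mono_map_app F g _ fun p q => haveI := hg p
      KFlatGen.mono_map_app_cof F hG (cof_resolution E) q _)
    (fun _ hA => (KFlatGen.acyclic_tensor_of_cof F (cof_resolution E) hA).1) L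
    (nonempty_iso F hG E L α)

omit hG in
/-- `U ↦ (Gen U [-i] ⊗ -)`. -/
noncomputable abbrev T (Gen : ι ⥤ C) (i : ℤ) :
    ι ⥤ CochainComplex C ℤ ⥤ CochainComplex C ℤ :=
  DualCriterion.T F.map₂CochainComplex Gen i

omit hG in
theorem cof_single (U : ι) (i : ℤ) :
    cof Gen.obj (0 : (0 : CochainComplex C ℤ) ⟶ (single C (.up ℤ) i).obj (Gen.obj U)) :=
  DualCriterion.cof_single (G := Gen.obj) U i

omit hG in
instance additive_T (U : ι) (i : ℤ) : ((T F Gen i).obj U).Additive :=
  KFlatGen.additive_map₂_obj F _

theorem quasiIso_T (i : ℤ) (U : ι) {A B : CochainComplex C ℤ} (f : A ⟶ B) (hf : QuasiIso f) :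
    QuasiIso (((T F Gen i).obj U).map f) :=
  haveI := hf
  KFlatGen.quasiIso_obj_map F hG (cof_single U i) f

theorem shortExact_T (i : ℤ) (U : ι) (S : ShortComplex (CochainComplex C ℤ)) (hS : S.ShortExact) :
    (S.map ((T F Gen i).obj U)).ShortExact :=
  SESMap.shortExact_map _
    (fun g hg => Bifunctor.mono_obj_map F _ g fun p q => haveI := hg q
      KFlatGen.mono_map_cof F hG (cof_single U i) p _) hS

variable {J : GrothendieckTopology ι}

/-- `H^i R(K) = 0` iff morphisms `Gen U [-i] ⊗ E ⟶ K` vanish locally, for `R` right adjoint to a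
left derived functor of `- ⊗ E`. -/
theorem isZero_homology_iff (hsep : HomologyCriterion.SeparatedProp J Gen)
    (hlift : HomologyCriterion.LiftProp J Gen) (E : CochainComplex C ℤ)
    {L R : DerivedCategory C ⥤ DerivedCategory C} (adj : L ⊣ R)
    (α : DerivedCategory.Q ⋙ L ⟶ cxQ F E)
    [L.IsLeftDerivedFunctor α (HomologicalComplex.quasiIso C (ComplexShape.up ℤ))]
    (K : DerivedCategory C) (i : ℤ) :
    IsZero ((DerivedCategory.homologyFunctor C i).obj (R.obj K)) ↔
      LocallyZero.LZ J (T F Gen i) K E :=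
  DualCriterion.isZero_homology_rightAdjoint_iff hsep hlift hG adj α
    (fun U j => isIso_counit_app F hG (isKFlat_of_cof F hG (cof_single U j)) E L α) K i

omit hG in
/-- `Gen U [-i] ⊗ A[-j] = (Gen U ⊗ A)[-k]` for `i + j = k`, naturally in `U`. -/
noncomputable def singleIso (A : C) (i j k : ℤ) (h : i + j = k) :
    Gen ⋙ F.flip.obj A ⋙ single C (.up ℤ) k ≅
      T F Gen i ⋙ (evaluation _ _).obj ((single C (.up ℤ) j).obj A) :=
  NatIso.ofComponents (fun U => SingleTensor.iso F i j k h A (Gen.obj U))
    (fun g => SingleTensor.hom_naturality F i j k h A (Gen.map g))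

omit hG in
theorem lz_single_iff (K : DerivedCategory C) (A : C) (i j : ℤ) :
    LocallyZero.LZ J (T F Gen i) K ((CochainComplex.singleFunctor C j).obj A) ↔
      LocallyZero.LZ J (T F Gen (i + j)) K ((CochainComplex.singleFunctor C 0).obj A) :=
  LocallyZero.lz_iff_of_iso_natural
    ((singleIso F A i j (i + j) rfl).symm ≪≫ singleIso F A (i + j) 0 (i + j) (add_zero _))

/-- Dévissage of `E` along its cohomology objects. -/
theorem lz_of_bounded (i : ℤ) (K : DerivedCategory C) (n : ℕ) (E : CochainComplex C ℤ) (a : ℤ)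
    (hE : E.IsGE a) (hE' : E.IsLE (a + n))
    (h : ∀ j, a ≤ j → LocallyZero.LZ J (T F Gen (i + j)) K
      ((CochainComplex.singleFunctor C 0).obj (E.homology j))) :
    LocallyZero.LZ J (T F Gen i) K E :=
  LocallyZero.lz_of_bounded (quasiIso_T F hG i) (shortExact_T F hG i) n E a hE hE'
    fun j hj => (lz_single_iff F K _ i j).2 (h j hj)

end Groth.Agent.H88.Hom.DerivedTensorGen
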