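import Groth.Agent.Lib.DerCat.KInjExists
import Mathlib.Algebra.Homology.DerivedCategory.KInjective
import Mathlib.Algebra.Homology.HomotopyCategory.Pretriangulated
import Mathlib.CategoryTheory.Adjunction.PartialAdjoint
import Mathlib.CategoryTheory.Adjunction.Additive

/-!
A functor on complexes which preserves monomorphisms and acyclic complexes and has a right adjoint
induces a left adjoint on the derived category of a Grothendieck abelian category.
-/

universe w v u

open CategoryTheory CategoryTheory.Limits HomologicalComplex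

namespace Groth.Agent.H88.Hom.DerivedAdjoint

variable {C : Type u} [Category.{v} C] [Abelian C]

/-- A null homotopic map to a termwise injective complex extends along monomorphisms. -/
theorem exists_extension {A B I : CochainComplex C ℤ} (i : A ⟶ B) [∀ n, Mono (i.f n)]
    [∀ n, Injective (I.X n)] (h : A ⟶ I) (k : Homotopy h 0) : ∃ H : B ⟶ I, i ≫ H = h := by
  refine ⟨Homotopy.nullHomotopicMap fun p q => Injective.factorThru (k.hom p q) (i.f p), ?_⟩
  rw [Homotopy.comp_nullHomotopicMap]
  ext n
  rw [show h.f n = dNext n k.hom + prevD n k.hom by simpa using k.comm n]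
  simp [Homotopy.nullHomotopicMap, Injective.comp_factorThru]

variable [HasDerivedCategory.{w} C]

theorem Q_map_eq_zero_of_homotopy {A B : CochainComplex C ℤ} {h : A ⟶ B} (k : Homotopy h 0) :
    DerivedCategory.Q.map h = 0 := by
  rw [DerivedCategory.Q_map_eq_of_homotopy C k, Functor.map_zero]

theorem Q_map_surjective {A I : CochainComplex C ℤ} [I.IsKInjective] :
    Function.Surjective (DerivedCategory.Q.map : (A ⟶ I) → _) := by
  intro α
  obtain ⟨φ', hφ'⟩ := (CochainComplex.IsKInjective.Qh_map_bijective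
    ((HomotopyCategory.quotient C (ComplexShape.up ℤ)).obj A) I).2
    ((DerivedCategory.quotientCompQhIso C).hom.app _ ≫ α ≫
      (DerivedCategory.quotientCompQhIso C).inv.app I)
  obtain ⟨φ, rfl⟩ := (HomotopyCategory.quotient C (ComplexShape.up ℤ)).map_surjective φ'
  refine ⟨φ, ?_⟩
  have := (DerivedCategory.quotientCompQhIso C).hom.naturality φ
  rw [Functor.comp_map, hφ'] at this
  simp only [Category.assoc, Iso.inv_hom_id_app, Category.comp_id] at this
  exact ((cancel_epi _).1 this).symm

theorem nonempty_homotopy_zero_of_Q_map_eq_zero {A I : CochainComplex C ℤ} [I.IsKInjective]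
    (h : A ⟶ I) (hh : DerivedCategory.Q.map h = 0) : Nonempty (Homotopy h 0) := by
  refine ⟨HomotopyCategory.homotopyOfEq _ _ ((CochainComplex.IsKInjective.Qh_map_bijective
    ((HomotopyCategory.quotient C (ComplexShape.up ℤ)).obj A) I).1 ?_)⟩
  have := (DerivedCategory.quotientCompQhIso C).hom.naturality h
  rw [hh, comp_zero] at this
  rw [CategoryTheory.Functor.map_zero, CategoryTheory.Functor.map_zero]
  exact (cancel_mono ((DerivedCategory.quotientCompQhIso C).hom.app I)).1
    (this.trans zero_comp.symm)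

variable [IsGrothendieckAbelian.{v} C] {L₀ R₀ : CochainComplex C ℤ ⥤ CochainComplex C ℤ}
  (adj : L₀ ⊣ R₀) [L₀.Additive]
  (hmono : ∀ {A B : CochainComplex C ℤ} (f : A ⟶ B), (∀ n, Mono (f.f n)) → Mono (L₀.map f))

include adj hmono in
omit [HasDerivedCategory.{w} C] in
theorem nonempty_homotopy_zero {A I : CochainComplex C ℤ} [∀ n, Injective (I.X n)]
    (φ : A ⟶ R₀.obj I) (k : Homotopy ((adj.homEquiv A I).symm φ) 0) : Nonempty (Homotopy φ 0) := by
  let i := CochainComplex.mappingCone.inr (𝟙 A)
  haveI : ∀ n, Mono (i.f n) := fun n => by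
    haveI : Mono (i.f n ≫ (CochainComplex.mappingCone.snd (𝟙 A)).v n n (add_zero n)) := by
      rw [CochainComplex.mappingCone.inr_f_snd_v]
      infer_instance
    exact mono_of_mono _ ((CochainComplex.mappingCone.snd (𝟙 A)).v n n (add_zero n))
  haveI := hmono i inferInstance
  haveI : ∀ n, Mono ((L₀.map i).f n) := fun n =>
    inferInstanceAs (Mono ((eval C (.up ℤ) n).map (L₀.map i)))
  obtain ⟨H, hH⟩ := exists_extension (L₀.map i) _ k
  have hφ : φ = i ≫ adj.homEquiv _ _ H := by
    rw [← adj.homEquiv_naturality_left, hH, Equiv.apply_symm_apply]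
  exact ⟨(Homotopy.ofEq (by rw [hφ]; simp)).trans
    ((((CochainComplex.mappingCone.homotopyToZeroOfId A).compLeft i).compRight
      (adj.homEquiv _ _ H)).trans (Homotopy.ofEq (by simp)))⟩

variable (hac : ∀ A : CochainComplex C ℤ, A.Acyclic → (L₀.obj A).Acyclic)

include adj hmono hac in
omit [HasDerivedCategory.{w} C] in
theorem isKInjective_rightAdjoint (I : CochainComplex C ℤ) [I.IsKInjective]
    [∀ n, Injective (I.X n)] : (R₀.obj I).IsKInjective where
  nonempty_homotopy_zero := fun {A} φ hA =>
    nonempty_homotopy_zero adj hmono φ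
      (CochainComplex.IsKInjective.homotopyZero ((adj.homEquiv A I).symm φ) (hac A hA))

include adj hmono hac in
/-- The induced functor on the derived category is a left adjoint. -/
theorem isLeftAdjoint (L : DerivedCategory C ⥤ DerivedCategory C)
    (e : DerivedCategory.Q ⋙ L ≅ L₀ ⋙ DerivedCategory.Q) : L.IsLeftAdjoint := by
  apply Functor.isLeftAdjoint_of_rightAdjointObjIsDefined_eq_top
  ext d
  simp only [Pi.top_apply, Prop.top_eq_true, iff_true]
  obtain ⟨K, ⟨eK⟩⟩ : ∃ K, Nonempty (DerivedCategory.Q.obj K ≅ d) :=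
    ⟨_, ⟨DerivedCategory.Q.objObjPreimageIso d⟩⟩
  obtain ⟨I, q, hI, hq, -, hinj⟩ := Lib.DerCat.KInjExists.exists_kInjective_resolution K
  haveI := hI
  haveI := hq
  haveI := hinj
  haveI := isKInjective_rightAdjoint adj hmono hac I
  let ε : L.obj (DerivedCategory.Q.obj (R₀.obj I)) ⟶ d :=
    e.hom.app (R₀.obj I) ≫ DerivedCategory.Q.map (adj.counit.app I) ≫
      inv (DerivedCategory.Q.map q) ≫ eK.hom
  have key : ∀ (A : CochainComplex C ℤ) (h : A ⟶ R₀.obj I),
      L.map (DerivedCategory.Q.map h) ≫ ε = e.hom.app A ≫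
        DerivedCategory.Q.map ((adj.homEquiv A I).symm h) ≫ inv (DerivedCategory.Q.map q) ≫ eK.hom := by
    intro A h
    have := e.hom.naturality h
    dsimp at this
    rw [Adjunction.homEquiv_counit, Functor.map_comp]
    simp only [ε, reassoc_of% this, Category.assoc]
  have surj : ∀ A : CochainComplex C ℤ, Function.Bijective
      (fun f : DerivedCategory.Q.obj A ⟶ DerivedCategory.Q.obj (R₀.obj I) => L.map f ≫ ε) := by
    intro A
    refine ⟨fun f f' hf => ?_, fun g => ?_⟩
    · obtain ⟨h, rfl⟩ := Q_map_surjective f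
      obtain ⟨h', rfl⟩ := Q_map_surjective f'
      simp only [key, cancel_epi] at hf
      rw [cancel_mono] at hf
      obtain ⟨k⟩ := nonempty_homotopy_zero_of_Q_map_eq_zero
        ((adj.homEquiv A I).symm (h - h')) (by
          rw [Adjunction.homEquiv_counit, Functor.map_sub, Preadditive.sub_comp, Functor.map_sub]
          rw [Adjunction.homEquiv_counit, Adjunction.homEquiv_counit] at hf
          rw [hf, sub_self])
      obtain ⟨k'⟩ := nonempty_homotopy_zero adj hmono (h - h') k
      have := Q_map_eq_zero_of_homotopy k'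
      rwa [Functor.map_sub, sub_eq_zero] at this
    · obtain ⟨h, hh⟩ := Q_map_surjective (e.inv.app A ≫ g ≫ eK.inv ≫ DerivedCategory.Q.map q)
      refine ⟨DerivedCategory.Q.map (adj.homEquiv A I h), ?_⟩
      simp [key, hh]
  have bij : ∀ X : DerivedCategory C, Function.Bijective
      (fun f : X ⟶ DerivedCategory.Q.obj (R₀.obj I) => L.map f ≫ ε) := by
    intro X
    obtain ⟨A, ⟨eA⟩⟩ : ∃ A, Nonempty (DerivedCategory.Q.obj A ≅ X) :=
      ⟨_, ⟨DerivedCategory.Q.objObjPreimageIso X⟩⟩
    refine ⟨fun f f' hf => ?_, fun g => ?_⟩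
    · rw [← cancel_epi eA.hom]
      refine (surj A).1 ?_
      simp only [Functor.map_comp, Category.assoc]
      exact congrArg (L.map eA.hom ≫ ·) hf
    · obtain ⟨f, hf⟩ := (surj A).2 (L.map eA.hom ≫ g)
      refine ⟨eA.inv ≫ f, ?_⟩
      simp only at hf ⊢
      rw [Functor.map_comp, Category.assoc, hf, ← Category.assoc, ← Functor.map_comp,
        Iso.inv_hom_id, CategoryTheory.Functor.map_id, Category.id_comp]
  let r : (L.op ⋙ yoneda.obj d).RepresentableBy (DerivedCategory.Q.obj (R₀.obj I)) :=
    { homEquiv := fun {X} => Equiv.ofBijective _ (bij X)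
      homEquiv_comp := fun {X X'} g f => by
        change L.map (g ≫ f) ≫ ε = L.map g ≫ L.map f ≫ ε
        rw [Functor.map_comp, Category.assoc] }
  exact r.isRepresentable

end Groth.Agent.H88.Hom.DerivedAdjoint
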