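import Groth.Agent.Lib.DerivedOX.LeftRes
import Mathlib.Algebra.Homology.HomologicalComplexBiprod
import Mathlib.CategoryTheory.Preadditive.AdditiveFunctor

/-!
Generic lemmas on functors between categories of complexes, to be specialised to categories of
sheaves.
-/

universe v u v' u'

open CategoryTheory CategoryTheory.Limits HomologicalComplex
open ZeroObject
open Groth.Agent.Lib.DerivedOX.TrivCof Groth.Agent.Lib.DerivedOX.LeftRes

attribute [local instance] preservesBinaryBiproducts_of_preservesBinaryCoproducts

namespace Groth.Agent.H88.Hom.CxLemmas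

variable {C : Type u} [Category.{v} C] [Abelian C] {D : Type u'} [Category.{v'} D] [Abelian D]

theorem additive_of_preservesFiniteColimits (F : CochainComplex C ℤ ⥤ CochainComplex D ℤ)
    [PreservesFiniteColimits F] : F.Additive :=
  Functor.additive_of_preservesBinaryBiproducts _

theorem quasiIso_right_of_square {A A' B B' : CochainComplex C ℤ} (a : A ⟶ A') (b : B ⟶ B')
    (t : A ⟶ B) (t' : A' ⟶ B') (h : a ≫ t' = t ≫ b) [QuasiIso a] [QuasiIso b] [QuasiIso t] :
    QuasiIso t' := by
  haveI : QuasiIso (a ≫ t') := by rw [h]; infer_instance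
  exact quasiIso_of_comp_left a t'

section Cof

variable {ι : Type v} {G : ι → C} [IsGrothendieckAbelian.{v} C]

/-- A colimit preserving functor which sends the generating cofibrations to monomorphisms with
acyclic cokernel sends cofibrant objects to acyclic complexes. -/
theorem acyclic_obj_of_cof (F : CochainComplex C ℤ ⥤ CochainComplex C ℤ)
    [PreservesColimitsOfSize.{v, v} F] (hF : ∀ a, acycMono C (F.map (genMap G a)))
    {P : CochainComplex C ℤ} (hP : cof G (0 : 0 ⟶ P)) : (F.obj P).Acyclic := by
  haveI := isLeftAdjoint_of_preservesColimits F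
  have h := cof_le_inverseImage F F.rightAdjoint (Adjunction.ofIsLeftAdjoint F) (testMaps _)
    (fun a => (acycMono_eq_llp (C := C)) ▸ hF a) _ hP
  rw [MorphismProperty.inverseImage_iff, ← acycMono_eq_llp] at h
  haveI := quasiIso_of_acycMono h
  intro n
  rw [← exactAt_iff_of_quasiIsoAt (F.map (0 : 0 ⟶ P)) n]
  exact ExactAt.of_isZero ((HomologicalComplex.eval _ _ n).map_isZero
    (F.map_isZero (isZero_zero _)))

end Cof

end Groth.Agent.H88.Hom.CxLemmas
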