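import Groth.Prelude.Def_SixF1
import Groth.Agent.Lib.DerivedAdj.Exact
import Groth.Agent.Lib.DerivedOX.Exists
import Mathlib.CategoryTheory.Preadditive.Injective.Preserves

/-!
# Composition of right derived functors (bounded below and unbounded)
-/

set_option autoImplicit false
set_option linter.style.haveILetI false

universe w₁ w₂ w₃ v₁ v₂ v₃ u₁ u₂ u₃

open CategoryTheory Limits

noncomputable section

namespace Groth.Agent.H88.Hom.DerivedComp

variable {A : Type u₁} [Category.{v₁} A] [Abelian A] {B : Type u₂} [Category.{v₂} B] [Abelian B]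
  {C : Type u₃} [Category.{v₃} C] [Abelian C]
  [HasDerivedCategory.{w₁} A] [HasDerivedCategory.{w₂} B] [HasDerivedCategory.{w₃} C]

omit [HasDerivedCategory.{w₁} A] [HasDerivedCategory.{w₂} B] in
theorem isIso_plusNatTrans {F G : A ⥤ B} [F.Additive] [G.Additive] (α : F ⟶ G) [IsIso α] :
    IsIso (EtSix.plusNatTrans α) := by
  have h1 : ∀ K, IsIso ((NatTrans.mapHomotopyCategory α (ComplexShape.up ℤ)).app K) := fun K => by
    dsimp [NatTrans.mapHomotopyCategory]
    haveI : ∀ n, IsIso (((NatTrans.mapHomologicalComplex α (ComplexShape.up ℤ)).app K.as).f n) :=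
      fun n => inferInstanceAs (IsIso (α.app (K.as.X n)))
    haveI : IsIso ((NatTrans.mapHomologicalComplex α (ComplexShape.up ℤ)).app K.as) :=
      HomologicalComplex.Hom.isIso_of_components _
    exact Functor.map_isIso _ _
  refine @NatIso.isIso_of_isIso_app _ _ _ _ _ _ _ fun K => ?_
  change IsIso ((HomotopyCategory.plus B).fullyFaithfulι.preimage
    (X := F.mapHomotopyCategoryPlus.obj K) (Y := G.mapHomotopyCategoryPlus.obj K)
    ((NatTrans.mapHomotopyCategory α (ComplexShape.up ℤ)).app ((HomotopyCategory.Plus.ι A).obj K)))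
  exact ((HomotopyCategory.plus B).fullyFaithfulι.preimageIso
    (X := F.mapHomotopyCategoryPlus.obj K) (Y := G.mapHomotopyCategoryPlus.obj K)
    (@asIso _ _ _ _ ((NatTrans.mapHomotopyCategory α (ComplexShape.up ℤ)).app
      ((HomotopyCategory.Plus.ι A).obj K)) (h1 _))).isIso_hom

theorem isIso_rPlusDesc₂ {F : A ⥤ B} {G : B ⥤ C} {H : A ⥤ C} [F.Additive] [G.Additive]
    [H.Additive] [EnoughInjectives A] [EnoughInjectives B] (θ : H ⟶ F ⋙ G) [IsIso θ]
    [F.PreservesInjectiveObjects] :
    IsIso (EtSix.rPlusDesc₂ θ) := by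
  refine @NatIso.isIso_of_isIso_app _ _ _ _ _ _ _ fun Y => ?_
  obtain ⟨K, ⟨i⟩⟩ := (inferInstance : ((InjectiveObject.ι A).mapHomotopyCategoryPlus ⋙
    DerivedCategory.Plus.Qh).EssSurj).mem_essImage Y
  rw [← NatTrans.isIso_app_iff_of_iso _ i]
  let K' := (InjectiveObject.ι A).mapHomotopyCategoryPlus.obj K
  have h := H.rightDerivedFunctorPlus.rightDerived_fac_app H.rightDerivedFunctorPlusUnit
    (HomotopyCategory.Plus.quasiIso A) (F.rightDerivedFunctorPlus ⋙ G.rightDerivedFunctorPlus)
    (EtSix.rPlusUnit₂ θ) K'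
  haveI : IsIso (H.rightDerivedFunctorPlusUnit.app K') := inferInstance
  haveI : IsIso (F.rightDerivedFunctorPlusUnit.app K') := inferInstance
  haveI : ∀ n, Injective ((F.mapHomotopyCategoryPlus.obj K').obj.as.X n) := fun n =>
    Functor.PreservesInjectiveObjects.injective_obj (F := F) (X := K'.obj.as.X n) inferInstance
  haveI : IsIso (G.rightDerivedFunctorPlusUnit.app (F.mapHomotopyCategoryPlus.obj K')) :=
    inferInstance
  haveI := isIso_plusNatTrans θ
  haveI : IsIso ((EtSix.rPlusUnit₂ θ).app K') := by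
    have e1 : IsIso ((EtSix.plusNatTrans θ).app K') := inferInstance
    have e2 : IsIso (DerivedCategory.Plus.Qh.map ((EtSix.plusNatTrans θ).app K' ≫
        (Functor.mapHomotopyCategoryPlusCompIso (Iso.refl (F ⋙ G))).inv.app K')) :=
      Functor.map_isIso _ _
    have e3 : IsIso (G.rightDerivedFunctorPlus.map (F.rightDerivedFunctorPlusUnit.app K')) :=
      Functor.map_isIso _ _
    simp only [EtSix.rPlusUnit₂, NatTrans.comp_app, Functor.whiskerRight_app,
      Functor.whiskerLeft_app, Functor.associator_hom_app, Functor.associator_inv_app]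
    refine @IsIso.comp_isIso _ _ _ _ _ _ _ e2 (@IsIso.comp_isIso _ _ _ _ _ _ _ (IsIso.id _)
      (@IsIso.comp_isIso _ _ _ _ _ _ _ (inferInstanceAs (IsIso
        (G.rightDerivedFunctorPlusUnit.app (F.mapHomotopyCategoryPlus.obj K'))))
      (@IsIso.comp_isIso _ _ _ _ _ _ _ (IsIso.id _)
      (@IsIso.comp_isIso _ _ _ _ _ _ _ e3 (IsIso.id _)))))
  exact IsIso.of_isIso_fac_left h

omit [HasDerivedCategory.{w₁} A] [HasDerivedCategory.{w₂} B] in
/-- A right adjoint of an exact functor preserves K-injective complexes. -/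
theorem isKInjective_map {L : B ⥤ A} {R : A ⥤ B} (adj : L ⊣ R) [L.Additive] [R.Additive]
    [L.PreservesHomology] (I : CochainComplex A ℤ) [I.IsKInjective] :
    CochainComplex.IsKInjective ((R.mapHomologicalComplex (ComplexShape.up ℤ)).obj I) := by
  rw [CochainComplex.isKInjective_iff_rightOrthogonal]
  intro Z g hZ
  obtain ⟨Z, rfl⟩ := HomotopyCategory.quotient_obj_surjective Z
  rw [HomotopyCategory.quotient_obj_mem_subcategoryAcyclic_iff_acyclic] at hZ
  let g' : (HomotopyCategory.quotient B (ComplexShape.up ℤ)).obj Z ⟶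
      (R.mapHomotopyCategory (ComplexShape.up ℤ)).obj
        ((HomotopyCategory.quotient A (ComplexShape.up ℤ)).obj I) := g
  have hac : ((L.mapHomologicalComplex (ComplexShape.up ℤ)).obj Z).Acyclic := fun n =>
    (hZ n).map L
  have h0 : ((Groth.Agent.Lib.DerivedAdj.Exact.adjK adj).homEquiv _ _).symm g' = 0 := by
    refine (CochainComplex.isKInjective_iff_rightOrthogonal I).1 inferInstance _ ?_
    exact (HomotopyCategory.quotient_obj_mem_subcategoryAcyclic_iff_acyclic _).2 hac
  have h1 := congrArg ((Groth.Agent.Lib.DerivedAdj.Exact.adjK adj).homEquiv _ _) h0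
  rw [Equiv.apply_symm_apply] at h1
  change g' = 0
  rw [h1, Adjunction.homEquiv_unit]
  simp

variable {F : A ⥤ B} {G : B ⥤ C} {H : A ⥤ C} [F.Additive] [G.Additive] [H.Additive]

/-- The unit of the composite of two total right derived functors. -/
def compUnit (θ : H ⟶ F ⋙ G)
    [(F.mapHomotopyCategory (ComplexShape.up ℤ) ⋙ DerivedCategory.Qh).HasRightDerivedFunctor
      (HomotopyCategory.quasiIso A (ComplexShape.up ℤ))]
    [(G.mapHomotopyCategory (ComplexShape.up ℤ) ⋙ DerivedCategory.Qh).HasRightDerivedFunctor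
      (HomotopyCategory.quasiIso B (ComplexShape.up ℤ))] :
    H.mapHomotopyCategory (ComplexShape.up ℤ) ⋙ DerivedCategory.Qh ⟶
      DerivedCategory.Qh ⋙
        ((F.mapHomotopyCategory (ComplexShape.up ℤ) ⋙ DerivedCategory.Qh).totalRightDerived
            DerivedCategory.Qh (HomotopyCategory.quasiIso A (ComplexShape.up ℤ)) ⋙
          (G.mapHomotopyCategory (ComplexShape.up ℤ) ⋙ DerivedCategory.Qh).totalRightDerived
            DerivedCategory.Qh (HomotopyCategory.quasiIso B (ComplexShape.up ℤ))) :=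
  Functor.whiskerRight (NatTrans.mapHomotopyCategory θ (ComplexShape.up ℤ) ≫
      (Functor.mapHomotopyCategoryCompIso (Iso.refl (F ⋙ G)) (ComplexShape.up ℤ)).inv)
      DerivedCategory.Qh ≫
    (Functor.associator _ _ _).hom ≫
    Functor.whiskerLeft (F.mapHomotopyCategory (ComplexShape.up ℤ))
      ((G.mapHomotopyCategory (ComplexShape.up ℤ) ⋙ DerivedCategory.Qh).totalRightDerivedUnit
        DerivedCategory.Qh (HomotopyCategory.quasiIso B (ComplexShape.up ℤ))) ≫
    (Functor.associator _ _ _).inv ≫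
    Functor.whiskerRight
      ((F.mapHomotopyCategory (ComplexShape.up ℤ) ⋙ DerivedCategory.Qh).totalRightDerivedUnit
        DerivedCategory.Qh (HomotopyCategory.quasiIso A (ComplexShape.up ℤ))) _ ≫
    (Functor.associator _ _ _).hom

omit [HasDerivedCategory.{w₁} A] [HasDerivedCategory.{w₃} C] in
theorem isIso_mapHomotopyCategory_app {P Q : A ⥤ C} [P.Additive] [Q.Additive] (α : P ⟶ Q)
    [IsIso α] (K : HomotopyCategory A (ComplexShape.up ℤ)) :
    IsIso ((NatTrans.mapHomotopyCategory α (ComplexShape.up ℤ)).app K) := by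
  dsimp [NatTrans.mapHomotopyCategory]
  haveI : ∀ n, IsIso (((NatTrans.mapHomologicalComplex α (ComplexShape.up ℤ)).app K.as).f n) :=
    fun n => inferInstanceAs (IsIso (α.app (K.as.X n)))
  haveI : IsIso ((NatTrans.mapHomologicalComplex α (ComplexShape.up ℤ)).app K.as) :=
    HomologicalComplex.Hom.isIso_of_components _
  exact Functor.map_isIso _ _

open Groth.Agent.Lib.DerivedOX in
theorem isIso_desc_compUnit [IsGrothendieckAbelian.{v₁} A] [IsGrothendieckAbelian.{v₂} B]
    {L : B ⥤ A} (adj : L ⊣ F) [L.Additive] [L.PreservesHomology] (θ : H ⟶ F ⋙ G) [IsIso θ]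
    [(F.mapHomotopyCategory (ComplexShape.up ℤ) ⋙ DerivedCategory.Qh).HasRightDerivedFunctor
      (HomotopyCategory.quasiIso A (ComplexShape.up ℤ))]
    [(G.mapHomotopyCategory (ComplexShape.up ℤ) ⋙ DerivedCategory.Qh).HasRightDerivedFunctor
      (HomotopyCategory.quasiIso B (ComplexShape.up ℤ))]
    [(H.mapHomotopyCategory (ComplexShape.up ℤ) ⋙ DerivedCategory.Qh).HasRightDerivedFunctor
      (HomotopyCategory.quasiIso A (ComplexShape.up ℤ))] :
    IsIso (((H.mapHomotopyCategory (ComplexShape.up ℤ) ⋙ DerivedCategory.Qh).totalRightDerived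
        DerivedCategory.Qh (HomotopyCategory.quasiIso A (ComplexShape.up ℤ))).rightDerivedDesc
      ((H.mapHomotopyCategory (ComplexShape.up ℤ) ⋙ DerivedCategory.Qh).totalRightDerivedUnit
        DerivedCategory.Qh (HomotopyCategory.quasiIso A (ComplexShape.up ℤ)))
      (HomotopyCategory.quasiIso A (ComplexShape.up ℤ)) _ (compUnit θ)) := by
  refine @NatIso.isIso_of_isIso_app _ _ _ _ _ _ _ fun Y => ?_
  obtain ⟨K, ⟨e⟩⟩ : ∃ K : CochainComplex A ℤ, Nonempty (DerivedCategory.Q.obj K ≅ Y) :=
    ⟨_, ⟨DerivedCategory.Q.objObjPreimageIso Y⟩⟩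
  obtain ⟨I, f, hI, hf⟩ := Groth.Agent.Lib.DerCat.KInjExists.hasKInjRes K
  let q := (HomotopyCategory.quotient A (ComplexShape.up ℤ)).obj I
  let i : DerivedCategory.Qh.obj q ≅ Y :=
    (DerivedCategory.quotientCompQhIso A).app I ≪≫ (asIso (DerivedCategory.Q.map f)).symm ≪≫ e
  rw [← NatTrans.isIso_app_iff_of_iso _ i]
  have h := Functor.rightDerived_fac_app
    ((H.mapHomotopyCategory (ComplexShape.up ℤ) ⋙ DerivedCategory.Qh).totalRightDerived
      DerivedCategory.Qh (HomotopyCategory.quasiIso A (ComplexShape.up ℤ)))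
    ((H.mapHomotopyCategory (ComplexShape.up ℤ) ⋙ DerivedCategory.Qh).totalRightDerivedUnit
      DerivedCategory.Qh (HomotopyCategory.quasiIso A (ComplexShape.up ℤ)))
    (HomotopyCategory.quasiIso A (ComplexShape.up ℤ)) _ (compUnit θ) q
  haveI := RightDerived.isIso_totalRightDerivedUnit_app_of_isKInjective
    (H.mapHomotopyCategory (ComplexShape.up ℤ) ⋙ DerivedCategory.Qh) I
  haveI e3 := RightDerived.isIso_totalRightDerivedUnit_app_of_isKInjective
    (F.mapHomotopyCategory (ComplexShape.up ℤ) ⋙ DerivedCategory.Qh) I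
  haveI := isKInjective_map adj I
  have e4 := RightDerived.isIso_totalRightDerivedUnit_app_of_isKInjective
    (G.mapHomotopyCategory (ComplexShape.up ℤ) ⋙ DerivedCategory.Qh)
    ((F.mapHomologicalComplex (ComplexShape.up ℤ)).obj I)
  haveI : IsIso ((compUnit θ).app q) := by
    haveI := isIso_mapHomotopyCategory_app θ q
    have e2 : IsIso (DerivedCategory.Qh.map ((NatTrans.mapHomotopyCategory θ
        (ComplexShape.up ℤ)).app q ≫ (Functor.mapHomotopyCategoryCompIso (Iso.refl (F ⋙ G))
          (ComplexShape.up ℤ)).inv.app q)) := Functor.map_isIso _ _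
    simp only [compUnit, NatTrans.comp_app, Functor.whiskerRight_app,
      Functor.whiskerLeft_app, Functor.associator_hom_app, Functor.associator_inv_app]
    exact @IsIso.comp_isIso _ _ _ _ _ _ _ e2 (@IsIso.comp_isIso _ _ _ _ _ _ _ (IsIso.id _)
      (@IsIso.comp_isIso _ _ _ _ _ _ _ e4 (@IsIso.comp_isIso _ _ _ _ _ _ _ (IsIso.id _)
        (@IsIso.comp_isIso _ _ _ _ _ _ _ (Functor.map_isIso _ _) (IsIso.id _)))))
  exact IsIso.of_isIso_fac_left h

end Groth.Agent.H88.Hom.DerivedComp
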