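import Groth.Prelude.Def_RDer

/-!
The first edge map is an isomorphism on objects without higher derived functors.
-/

set_option autoImplicit false
set_option linter.style.haveILetI false

universe v₁ v₂ v₃ u₁ u₂ u₃

open CategoryTheory CategoryTheory.Limits HomologicalComplex

namespace Groth.Agent.H88.Hom.EdgeIn

variable {A : Type u₁} [Category.{v₁} A] [Abelian A] [HasInjectiveResolutions A]
  {B : Type u₂} [Category.{v₂} B] [Abelian B] [HasInjectiveResolutions B]
  {C : Type u₃} [Category.{v₃} C] [Abelian C]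

omit [HasInjectiveResolutions B] in
/-- An acyclic object: `Φ` of an injective resolution is a resolution. -/
theorem quasiIso_mapAug (Φ : A ⥤ B) [Φ.Additive] [PreservesFiniteLimits Φ] (X : A)
    (R : InjectiveResolution X) (h : ∀ q : ℕ, 0 < q → IsZero ((Φ.rightDerived q).obj X)) :
    QuasiIso (RDer.mapAug Φ R.ι) := by
  have hq : QuasiIso ((Φ.mapHomologicalComplex (ComplexShape.up ℕ)).map R.ι) := by
    refine ⟨fun n => ?_⟩
    match n with
    | 0 =>
      haveI : Mono (R.ι.f 0) := RDer.res_mono R.cocomplex R.ι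
      rw [quasiIsoAt_iff' _ 0 0 1 (by simp) (by simp),
        ShortComplex.quasiIso_iff_of_zeros _ ?_ ?_ ?_]
      · exact ⟨ShortComplex.exact_of_f_is_kernel _ (KernelFork.mapIsLimit _ (RDer.resIsLimitKernelFork R.cocomplex R.ι) Φ),
          inferInstanceAs (Mono (Φ.map (R.ι.f 0)))⟩
      · exact (congrArg Φ.map (single_obj_d (ComplexShape.up ℕ) 0 X 0 0)).trans (Φ.map_zero _ _)
      · exact (congrArg Φ.map (single_obj_d (ComplexShape.up ℕ) 0 X 0 1)).trans (Φ.map_zero _ _)
      · exact (congrArg Φ.map (R.cocomplex.shape 0 0 (by simp))).trans (Φ.map_zero _ _)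
    | k + 1 =>
      have h1 : ((Φ.mapHomologicalComplex (ComplexShape.up ℕ)).obj
          ((CochainComplex.single₀ A).obj X)).ExactAt (k + 1) :=
        ShortComplex.exact_of_isZero_X₂ _ (Φ.map_isZero
          (isZero_single_obj_X (ComplexShape.up ℕ) 0 X (k + 1) (by omega)))
      rw [quasiIsoAt_iff_exactAt _ (k + 1) h1, exactAt_iff_isZero_homology]
      exact (h (k + 1) (by omega)).of_iso (R.isoRightDerivedObj Φ (k + 1)).symm
  dsimp only [RDer.mapAug]
  infer_instance

/-- The first edge map is an isomorphism if `X` has no higher derived functors. -/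
theorem isIso_edgeIn (Φ : A ⥤ B) [Φ.Additive] [Φ.PreservesInjectiveObjects] [PreservesFiniteLimits Φ]
    (Ψ : B ⥤ C) [Ψ.Additive] (q : ℕ) (X : A)
    (h : ∀ n : ℕ, 0 < n → IsZero ((Φ.rightDerived n).obj X)) :
    IsIso (RDer.edgeIn Φ Ψ q X) := by
  let R : InjectiveResolution (Φ.obj X) :=
    { cocomplex := (Φ.mapHomologicalComplex (ComplexShape.up ℕ)).obj (injectiveResolution X).cocomplex
      injective := fun n => Φ.injective_obj ((injectiveResolution X).cocomplex.X n)
      ι := RDer.mapAug Φ (injectiveResolution X).ι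
      quasiIso := quasiIso_mapAug Φ X _ h }
  let J := injectiveResolution (Φ.obj X)
  let φ := RDer.descToInjectives (𝟙 (Φ.obj X)) J.cocomplex J.ι R.cocomplex R.ι
  have hφ : Homotopy φ (InjectiveResolution.homotopyEquiv J R).hom := by
    refine InjectiveResolution.descHomotopy (𝟙 (Φ.obj X)) φ _ ?_ ?_
    · apply HomologicalComplex.from_single_hom_ext
      have := RDer.ι_descToInjectives_f_zero (𝟙 (Φ.obj X)) J.cocomplex J.ι R.cocomplex R.ι
      simp only [comp_f, φ]
      rw [this, CochainComplex.single₀_map_f_zero]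
      rfl
    · exact InjectiveResolution.desc_commutes _ _ _
  have h2 : IsIso ((homologyFunctor C (ComplexShape.up ℕ) q).map
      ((Ψ.mapHomologicalComplex (ComplexShape.up ℕ)).map φ)) := by
    change IsIso (homologyMap _ _)
    rw [(Ψ.mapHomotopy hφ).homologyMap_eq q]
    exact ((Ψ.mapHomotopyEquiv (InjectiveResolution.homotopyEquiv J R)).toHomologyIso q).isIso_hom
  exact @IsIso.comp_isIso _ _ _ _ _ _ _ inferInstance
    (@IsIso.comp_isIso _ _ _ _ _ _ _ h2 inferInstance)

end Groth.Agent.H88.Hom.EdgeIn
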