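import Groth.Agent.H88.Hom.QuasiIsoMap
import Groth.Agent.H88.Hom.CxLemmas
import Groth.Agent.Lib.DerivedOX.KFlat

/-!
K-flat resolutions for a biadditive functor `F` on a Grothendieck abelian category which preserves
colimits in each variable and is exact on each member of a separating family `G`.
-/

universe v u

open CategoryTheory CategoryTheory.Limits HomologicalComplex
open ZeroObject
open Groth.Agent.Lib.DerivedOX Groth.Agent.Lib.DerivedOX.TrivCof
  Groth.Agent.Lib.DerivedOX.LeftRes

attribute [local instance] preservesBinaryBiproducts_of_preservesBinaryCoproducts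

namespace Groth.Agent.H88.Hom.KFlatGen

variable {C : Type u} [Category.{v} C] [Abelian C] [IsGrothendieckAbelian.{v} C]
  [∀ J : Type, HasColimitsOfShape (Discrete J) C]
  (F : C ⥤ C ⥤ C) [F.Additive] [∀ A, (F.obj A).Additive]
  [∀ A, PreservesColimitsOfSize.{v, v} (F.obj A)]
  [∀ A, PreservesColimitsOfSize.{v, v} (F.flip.obj A)]
  {ι : Type v} (G : ι → C)

instance preservesMono_colim_discrete (κ : Type v) :
    (colim : (Discrete κ ⥤ C) ⥤ C).PreservesMonomorphisms := by
  haveI : HasExactColimitsOfShape (Discrete κ) C := by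
    haveI : HasFiniteBiproducts C := HasFiniteBiproducts.of_hasFiniteProducts
    haveI : AB4OfSize.{v} C := AB4.of_AB5.{v} C
    exact AB4OfSize.ofShape _
  infer_instance

instance preservesMono_colim (κ : Type) :
    (colim : (Discrete κ ⥤ C) ⥤ C).PreservesMonomorphisms := by
  haveI : HasExactColimitsOfShape (Discrete κ) C := by
    haveI : HasFiniteBiproducts C := HasFiniteBiproducts.of_hasFiniteProducts
    haveI : AB4OfSize.{v} C := AB4.of_AB5.{v} C
    haveI : HasExactColimitsOfShape (Discrete (ULift.{v} κ)) C := AB4OfSize.ofShape _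
    exact HasExactColimitsOfShape.of_domain_equivalence _ (Discrete.equivalence Equiv.ulift)
  infer_instance

instance preservesColimits_map₂_obj (L : CochainComplex C ℤ) :
    PreservesColimitsOfSize.{v, v} (F.map₂CochainComplex.obj L) :=
  ⟨fun {_} _ => Bifunctor.preservesColimitsOfShape_obj F L⟩

instance preservesColimits_map₂_flip_obj (L : CochainComplex C ℤ) :
    PreservesColimitsOfSize.{v, v} (F.map₂CochainComplex.flip.obj L) :=
  ⟨fun {_} _ => Bifunctor.preservesColimitsOfShape_flip_obj F L⟩

instance additive_flip_obj (A : C) : (F.flip.obj A).Additive :=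
  Functor.additive_of_preservesBinaryBiproducts _

instance additive_flip : F.flip.Additive where
  map_add {A B f g} := by
    ext Y
    exact (F.obj Y).map_add

instance additive_map₂_obj (L : CochainComplex C ℤ) : (F.map₂CochainComplex.obj L).Additive :=
  Hom.CxLemmas.additive_of_preservesFiniteColimits _

instance additive_map₂_flip_obj (L : CochainComplex C ℤ) :
    (F.map₂CochainComplex.flip.obj L).Additive :=
  Hom.CxLemmas.additive_of_preservesFiniteColimits _

variable [∀ i, PreservesFiniteLimits (F.obj (G i))] [∀ i, PreservesFiniteLimits (F.flip.obj (G i))]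
variable {G}

theorem acyclic_tensor_single {L : CochainComplex C ℤ} (hL : L.Acyclic) (U : ι) (n : ℤ) :
    ((F.map₂CochainComplex.obj L).obj ((single C (.up ℤ) n).obj (G U))).Acyclic :=
  Bifunctor.acyclic_obj_single _ L n _ (Lib.DerivedOX.KFlat.acyclic_map _ hL)

theorem acyclic_single_tensor {L : CochainComplex C ℤ} (hL : L.Acyclic) (U : ι) (n : ℤ) :
    ((F.map₂CochainComplex.obj ((single C (.up ℤ) n).obj (G U))).obj L).Acyclic :=
  Bifunctor.acyclic_single_obj _ (G U) n L (Lib.DerivedOX.KFlat.acyclic_map _ hL)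

/-- `L ⊗ -` sends the generating cofibrations to monomorphisms with acyclic cokernel. -/
theorem acycMono_tensor_genMap {L : CochainComplex C ℤ} (hL : L.Acyclic)
    (a : (ι × ℤ) ⊕ (ι × ℤ)) :
    acycMono C ((F.map₂CochainComplex.obj L).map (genMap G a)) := by
  have hd : ∀ (U : ι) (n : ℤ),
      ((F.map₂CochainComplex.obj L).obj (disk (G U) n)).Acyclic :=
    fun U n => Bifunctor.acyclic_obj_of_homotopy_zero _ L
      (Lib.DerivedOX.KFlat.diskHomotopy (G U) n)
  rcases a with ⟨U, n⟩ | ⟨U, n⟩
  · have hz : IsZero ((F.map₂CochainComplex.obj L).obj (0 : CochainComplex C ℤ)) :=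
      Functor.map_isZero _ (isZero_zero _)
    haveI : Mono ((F.map₂CochainComplex.obj L).map (genMap G (Sum.inl (U, n)))) :=
      ⟨fun _ _ _ => hz.eq_of_tgt _ _⟩
    exact ⟨inferInstance, Lib.DerivedOX.KFlat.acyclic_cokernel _ (fun m => ExactAt.of_isZero
      ((HomologicalComplex.eval _ _ m).map_isZero hz)) (hd U n)⟩
  · haveI : Mono ((F.map₂CochainComplex.obj L).map (genMap G (Sum.inr (U, n)))) := by
      refine Bifunctor.mono_obj_map _ L (singleToDisk (G U) n) fun p q => ?_
      rcases Lib.DerivedOX.KFlat.isZero_f_or_isIso_singleToDisk (G U) n q with h | h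
      · exact ⟨fun _ _ _ => ((F.obj (L.X p)).map_isZero h).eq_of_tgt _ _⟩
      · infer_instance
    exact ⟨inferInstance, Lib.DerivedOX.KFlat.acyclic_cokernel _
      (acyclic_tensor_single F hL U _) (hd U n)⟩

/-- `- ⊗ L` sends the generating cofibrations to monomorphisms with acyclic cokernel. -/
theorem acycMono_genMap_tensor {L : CochainComplex C ℤ} (hL : L.Acyclic)
    (a : (ι × ℤ) ⊕ (ι × ℤ)) :
    acycMono C ((F.map₂CochainComplex.flip.obj L).map (genMap G a)) := by
  have hd : ∀ (U : ι) (n : ℤ),
      ((F.map₂CochainComplex.obj (disk (G U) n)).obj L).Acyclic :=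
    fun U n => Bifunctor.acyclic_flip_obj_of_homotopy_zero _
      (Lib.DerivedOX.KFlat.diskHomotopy (G U) n) L
  rcases a with ⟨U, n⟩ | ⟨U, n⟩
  · have hz : IsZero ((F.map₂CochainComplex.flip.obj L).obj (0 : CochainComplex C ℤ)) :=
      Functor.map_isZero _ (isZero_zero _)
    haveI : Mono ((F.map₂CochainComplex.flip.obj L).map (genMap G (Sum.inl (U, n)))) :=
      ⟨fun _ _ _ => hz.eq_of_tgt _ _⟩
    exact ⟨inferInstance, Lib.DerivedOX.KFlat.acyclic_cokernel _ (fun m => ExactAt.of_isZero
      ((HomologicalComplex.eval _ _ m).map_isZero hz)) (hd U n)⟩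
  · have hm : Mono ((F.map₂CochainComplex.map (singleToDisk (G U) n)).app L) := by
      refine Bifunctor.mono_map_app F (singleToDisk (G U) n) L
        fun p q => ?_
      rcases Lib.DerivedOX.KFlat.isZero_f_or_isIso_singleToDisk (G U) n p with h | h
      · exact ⟨fun _ _ _ => ((F.map_isZero h).obj _).eq_of_tgt _ _⟩
      · infer_instance
    haveI := hm
    exact ⟨hm, Lib.DerivedOX.KFlat.acyclic_cokernel
      ((F.map₂CochainComplex.map (singleToDisk (G U) n)).app L)
      (acyclic_single_tensor F hL U (n + 1)) (hd U n)⟩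

/-- Tensoring a cofibrant complex with an acyclic one gives an acyclic complex. -/
theorem acyclic_tensor_of_cof {P : CochainComplex C ℤ} (hP : cof G (0 : 0 ⟶ P))
    {L : CochainComplex C ℤ} (hL : L.Acyclic) :
    ((F.map₂CochainComplex.obj L).obj P).Acyclic ∧ ((F.map₂CochainComplex.obj P).obj L).Acyclic := by
  exact ⟨Hom.CxLemmas.acyclic_obj_of_cof (F.map₂CochainComplex.obj L)
      (acycMono_tensor_genMap F hL) hP,
    Hom.CxLemmas.acyclic_obj_of_cof (F.map₂CochainComplex.flip.obj L)
      (acycMono_genMap_tensor F hL) hP⟩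

/-- Tensoring with a coproduct of generators preserves monomorphisms. -/
theorem mono_map_sigma {κ : Type v} (U : κ → ι) {A B : C} (f : A ⟶ B) [Mono f] :
    Mono ((F.obj (∐ fun i => G (U i))).map f) := by
  let α : Discrete.functor (fun i => (F.flip.obj A).obj (G (U i))) ⟶
      Discrete.functor (fun i => (F.flip.obj B).obj (G (U i))) :=
    Discrete.natTrans fun i => (F.obj (G (U i.as))).map f
  haveI : ∀ i, Mono (α.app i) := fun i => inferInstanceAs (Mono ((F.obj (G (U i.as))).map f))
  haveI : Mono α := NatTrans.mono_of_mono_app _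
  haveI : Mono (colimMap α) := inferInstanceAs (Mono ((colim : (Discrete κ ⥤ C) ⥤ C).map α))
  have e : (PreservesCoproduct.iso (F.flip.obj A) fun i => G (U i)).inv ≫
      (F.obj (∐ fun i => G (U i))).map f =
      colimMap α ≫ (PreservesCoproduct.iso (F.flip.obj B) fun i => G (U i)).inv := by
    apply Sigma.hom_ext
    intro i
    rw [PreservesCoproduct.inv_hom, PreservesCoproduct.inv_hom, ι_comp_sigmaComparison_assoc,
      ι_colimMap_assoc, ι_comp_sigmaComparison]
    exact ((F.map (Sigma.ι (fun i => G (U i)) i)).naturality f).symm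
  have : Mono ((PreservesCoproduct.iso (F.flip.obj A) fun i => G (U i)).inv ≫
      (F.obj (∐ fun i => G (U i))).map f) := by
    rw [e]; infer_instance
  exact (MorphismProperty.monomorphisms C).cancel_left_of_respectsIso _ _ |>.1 this

/-- Tensoring on the left with a coproduct of generators preserves monomorphisms. -/
theorem mono_map_sigma' {κ : Type v} (U : κ → ι) {A B : C} (f : A ⟶ B) [Mono f] :
    Mono ((F.map f).app (∐ fun i => G (U i))) :=
  haveI : ∀ i, PreservesFiniteLimits (F.flip.flip.obj (G i)) := fun i =>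
    inferInstanceAs (PreservesFiniteLimits (F.obj (G i)))
  haveI : ∀ A, PreservesColimitsOfSize.{v, v} (F.flip.flip.obj A) := fun A =>
    inferInstanceAs (PreservesColimitsOfSize.{v, v} (F.obj A))
  mono_map_sigma F.flip U f

variable (hG : ObjectProperty.IsSeparating (ObjectProperty.ofObj G))
include hG

/-- Tensoring with a term of a cofibrant complex preserves monomorphisms. -/
theorem mono_map_cof {P : CochainComplex C ℤ} (hP : cof G (0 : 0 ⟶ P)) (p : ℤ)
    {A B : C} (f : A ⟶ B) [Mono f] : Mono ((F.obj (P.X p)).map f) := by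
  obtain ⟨r⟩ := exists_retract_of_cof hG _ hP p
  haveI := mono_map_sigma F (G := G) (fun a : (Σ i, G i ⟶ P.X p) => a.1) f
  haveI : Mono ((F.map r.i).app A) :=
    (SplitMono.mk (f := (F.map r.i).app A) ((F.map r.r).app A)
      (by rw [← NatTrans.comp_app, ← Functor.map_comp, r.retract, CategoryTheory.Functor.map_id]; rfl)).mono
  haveI : Mono ((F.obj (P.X p)).map f ≫ (F.map r.i).app B) := by
    rw [(F.map r.i).naturality f]
    infer_instance
  exact mono_of_mono _ ((F.map r.i).app B)

/-- Tensoring with a term of a cofibrant complex on the right preserves monomorphisms. -/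
theorem mono_map_app_cof {P : CochainComplex C ℤ} (hP : cof G (0 : 0 ⟶ P)) (p : ℤ)
    {A B : C} (f : A ⟶ B) [Mono f] : Mono ((F.map f).app (P.X p)) :=
  haveI : ∀ i, PreservesFiniteLimits (F.flip.flip.obj (G i)) := fun i =>
    inferInstanceAs (PreservesFiniteLimits (F.obj (G i)))
  haveI : ∀ A, PreservesColimitsOfSize.{v, v} (F.flip.flip.obj A) := fun A =>
    inferInstanceAs (PreservesColimitsOfSize.{v, v} (F.obj A))
  mono_map_cof F.flip hG hP p f

/-- `P ⊗ -` preserves quasi-isomorphisms for `P` cofibrant. -/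
theorem quasiIso_obj_map {P : CochainComplex C ℤ} (hP : cof G (0 : 0 ⟶ P))
    {A B : CochainComplex C ℤ} (f : A ⟶ B) [QuasiIso f] :
    QuasiIso ((F.map₂CochainComplex.obj P).map f) :=
  Hom.QuasiIsoMap.quasiIso_map (F.map₂CochainComplex.obj P)
    (fun g hg => Bifunctor.mono_obj_map _ P g fun p q => haveI := hg q; mono_map_cof F hG hP p _)
    (fun _ hL => (acyclic_tensor_of_cof F hP hL).2) f

/-- `- ⊗ P` preserves quasi-isomorphisms for `P` cofibrant. -/
theorem quasiIso_map_app {P : CochainComplex C ℤ} (hP : cof G (0 : 0 ⟶ P))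
    {A B : CochainComplex C ℤ} (f : A ⟶ B) [QuasiIso f] :
    QuasiIso ((F.map₂CochainComplex.map f).app P) :=
  Hom.QuasiIsoMap.quasiIso_map (F.map₂CochainComplex.flip.obj P)
    (fun g hg => Bifunctor.mono_map_app _ g P fun p q => haveI := hg p; mono_map_app_cof F hG hP q _)
    (fun _ hL => (acyclic_tensor_of_cof F hP hL).1) f

/-- Tensoring cofibrant complexes with any complex preserves quasi-isomorphisms. -/
theorem quasiIso_map_app_of_cof {P P' : CochainComplex C ℤ} (hP : cof G (0 : 0 ⟶ P))
    (hP' : cof G (0 : 0 ⟶ P')) (f : P ⟶ P') [QuasiIso f] (E : CochainComplex C ℤ) :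
    QuasiIso ((F.map₂CochainComplex.map f).app E) := by
  haveI := quasiIso_map_app F hG (cof_resolution E) f
  haveI := (epi_quasiIso_of_rlp hG _ (augmentation_rlp (G := G) E)).2
  haveI := quasiIso_obj_map F hG hP ((augmentation G).app E)
  haveI := quasiIso_obj_map F hG hP' ((augmentation G).app E)
  exact Hom.CxLemmas.quasiIso_right_of_square _ _ _ _
    ((F.map₂CochainComplex.map f).naturality ((augmentation G).app E))

end Groth.Agent.H88.Hom.KFlatGen
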