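import Mathlib.Algebra.Homology.DerivedCategory.Fractions
import Mathlib.Algebra.Homology.DerivedCategory.ShortExact
import Mathlib.Algebra.Homology.DerivedCategory.TStructure
import Mathlib.Algebra.Homology.DerivedCategory.HomologySequence
import Mathlib.CategoryTheory.Sites.Grothendieck
import Mathlib.Algebra.Homology.SingleHomology

/-!
Morphisms `Q (T U F) ⟶ K` which vanish locally in `U`, for a family of functors `T` on complexes
indexed by a site, and dévissage along the canonical truncations of `F`.
-/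

universe w v u v' u'

open CategoryTheory CategoryTheory.Limits HomologicalComplex Opposite

namespace Groth.Agent.H88.Hom.LocallyZero

variable {C : Type u} [Category.{v} C] [Abelian C] [HasDerivedCategory.{w} C]
  {E : Type u'} [Category.{v'} E] (J : GrothendieckTopology E)
  (T : E ⥤ CochainComplex C ℤ ⥤ CochainComplex C ℤ)

/-- Every morphism `Q (T U F) ⟶ K` vanishes on a covering of `U`. -/
def LZ (K : DerivedCategory C) (F : CochainComplex C ℤ) : Prop :=
  ∀ (U : E) (α : DerivedCategory.Q.obj ((T.obj U).obj F) ⟶ K),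
    ∃ S ∈ J U, ∀ (V : E) (g : V ⟶ U), S g → DerivedCategory.Q.map ((T.map g).app F) ≫ α = 0

variable {J T} {K : DerivedCategory C}

lemma lz_of_quasiIso (hT : ∀ (U : E) {A B : CochainComplex C ℤ} (f : A ⟶ B), QuasiIso f →
      QuasiIso ((T.obj U).map f))
    {A B : CochainComplex C ℤ} (f : A ⟶ B) (hf : QuasiIso f) : LZ J T K A ↔ LZ J T K B := by
  have hi : ∀ U, IsIso (DerivedCategory.Q.map ((T.obj U).map f)) := fun U =>
    haveI := hT U f hf
    inferInstance
  have nat : ∀ (V U : E) (g : V ⟶ U),
      DerivedCategory.Q.map ((T.obj V).map f) ≫ DerivedCategory.Q.map ((T.map g).app B) =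
        DerivedCategory.Q.map ((T.map g).app A) ≫ DerivedCategory.Q.map ((T.obj U).map f) :=
    fun V U g => by rw [← Functor.map_comp, ← Functor.map_comp, (T.map g).naturality]
  refine ⟨fun h U α => ?_, fun h U α => ?_⟩
  · obtain ⟨S, hS, hS'⟩ := h U (DerivedCategory.Q.map ((T.obj U).map f) ≫ α)
    refine ⟨S, hS, fun V g hg => ?_⟩
    haveI := hi V
    rw [← cancel_epi (DerivedCategory.Q.map ((T.obj V).map f)), comp_zero, ← Category.assoc, nat,
      Category.assoc, hS' V g hg]
  · haveI := hi U
    obtain ⟨S, hS, hS'⟩ := h U (inv (DerivedCategory.Q.map ((T.obj U).map f)) ≫ α)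
    refine ⟨S, hS, fun V g hg => ?_⟩
    have := DerivedCategory.Q.map ((T.obj V).map f) ≫= hS' V g hg
    rwa [← Category.assoc, nat, Category.assoc, IsIso.hom_inv_id_assoc, comp_zero] at this

lemma lz_of_iso (hT : ∀ (U : E) {A B : CochainComplex C ℤ} (f : A ⟶ B), QuasiIso f →
      QuasiIso ((T.obj U).map f))
    {A B : CochainComplex C ℤ} (e : DerivedCategory.Q.obj A ≅ DerivedCategory.Q.obj B) :
    LZ J T K A ↔ LZ J T K B := by
  obtain ⟨Z, s, hs, g, hg⟩ := DerivedCategory.right_fac e.hom
  have : IsIso (DerivedCategory.Q.map g) := by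
    have h : DerivedCategory.Q.map g = DerivedCategory.Q.map s ≫ e.hom := by simp [hg]
    rw [h]; infer_instance
  exact (lz_of_quasiIso hT s ((DerivedCategory.isIso_Q_map_iff_quasiIso _ s).1 hs)).symm.trans
    (lz_of_quasiIso hT g ((DerivedCategory.isIso_Q_map_iff_quasiIso _ g).1 this))

lemma lz_of_isZero {A : CochainComplex C ℤ}
    (hA : ∀ U, IsZero (DerivedCategory.Q.obj ((T.obj U).obj A))) : LZ J T K A :=
  fun U α => ⟨⊤, J.top_mem U, fun V g _ => by rw [(hA U).eq_of_src α 0, comp_zero]⟩

lemma lz_of_ses [∀ U, (T.obj U).Additive] {S : ShortComplex (CochainComplex C ℤ)}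
    (hT : ∀ U, (S.map (T.obj U)).ShortExact)
    (h₁ : LZ J T K S.X₁) (h₃ : LZ J T K S.X₃) : LZ J T K S.X₂ := by
  intro U α
  obtain ⟨R, hR, hR'⟩ := h₁ U (DerivedCategory.Q.map ((T.obj U).map S.f) ≫ α)
  have key : ∀ (V : E) (g : V ⟶ U), R g →
      ∃ Sv ∈ J V, ∀ (W : E) (k : W ⟶ V), Sv k →
        DerivedCategory.Q.map ((T.map (k ≫ g)).app S.X₂) ≫ α = 0 := by
    intro V g hg
    obtain ⟨β, hβ⟩ : ∃ β, DerivedCategory.Q.map ((T.map g).app S.X₂) ≫ α =
        DerivedCategory.Q.map ((T.obj V).map S.g) ≫ β :=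
      Pretriangulated.Triangle.yoneda_exact₂ _
        (DerivedCategory.triangleOfSES_distinguished (hT V))
        (DerivedCategory.Q.map ((T.map g).app S.X₂) ≫ α) (by
          change DerivedCategory.Q.map ((T.obj V).map S.f) ≫ _ = 0
          refine Eq.trans ?_ (hR' V g hg)
          refine ((Category.assoc _ _ _).symm.trans ?_).trans (Category.assoc _ _ _)
          exact congrArg (· ≫ α) ((DerivedCategory.Q.map_comp _ _).symm.trans
            ((congrArg (DerivedCategory.Q).map ((T.map g).naturality S.f)).trans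
              (DerivedCategory.Q.map_comp _ _))))
    obtain ⟨Sv, hSv, hSv'⟩ := h₃ V β
    refine ⟨Sv, hSv, fun W k hk => ?_⟩
    rw [Functor.map_comp, NatTrans.comp_app, Functor.map_comp, Category.assoc, hβ,
      ← Category.assoc, ← Functor.map_comp, ← (T.map k).naturality, Functor.map_comp,
      Category.assoc, hSv' W k hk, comp_zero]
  choose Sv hSv hSv' using key
  refine ⟨Sieve.bind R.arrows (fun V g hg => Sv V g hg), J.bind_covering hR (fun V g hg => hSv V g hg),
    ?_⟩
  rintro W _ ⟨V, k, g, hg, hk, rfl⟩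
  exact hSv' V g hg W k hk

section Devissage

variable [∀ U, (T.obj U).Additive]
  (hq : ∀ (U : E) {A B : CochainComplex C ℤ} (f : A ⟶ B), QuasiIso f → QuasiIso ((T.obj U).map f))
  (hs : ∀ (U : E) (S : ShortComplex (CochainComplex C ℤ)), S.ShortExact →
    (S.map (T.obj U)).ShortExact)
include hq hs

lemma lz_of_bounded (n : ℕ) : ∀ (F : CochainComplex C ℤ) (a : ℤ), F.IsGE a → F.IsLE (a + n) →
    (∀ j, a ≤ j → LZ J T K ((CochainComplex.singleFunctor C j).obj (F.homology j))) →
    LZ J T K F := by
  induction n with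
  | zero =>
    intro F a hF hF' h
    rw [Nat.cast_zero, add_zero] at hF'
    have h1 : (DerivedCategory.Q.obj F).IsGE a := (DerivedCategory.isGE_Q_obj_iff F a).2 hF
    have h2 : (DerivedCategory.Q.obj F).IsLE a := (DerivedCategory.isLE_Q_obj_iff F a).2 hF'
    obtain ⟨A, ⟨e⟩⟩ := DerivedCategory.exists_iso_singleFunctor_obj_of_isGE_of_isLE
      (DerivedCategory.Q.obj F) a
    have e' : DerivedCategory.Q.obj ((CochainComplex.singleFunctor C a).obj A) ≅
        DerivedCategory.Q.obj F :=
      ((DerivedCategory.singleFunctorIsoCompQ C a).app A).symm ≪≫ e.symm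
    have eA : A ≅ F.homology a :=
      (singleObjHomologySelfIso (ComplexShape.up ℤ) a A).symm ≪≫
        ((DerivedCategory.homologyFunctorFactors C a).app _).symm ≪≫
          (DerivedCategory.homologyFunctor C a).mapIso e' ≪≫
            (DerivedCategory.homologyFunctorFactors C a).app F
    refine (lz_of_iso hq e').1 ((lz_of_iso hq ?_).2 (h a le_rfl))
    exact DerivedCategory.Q.mapIso ((CochainComplex.singleFunctor C a).mapIso eA)
  | succ n ih =>
    intro F a hF hF' h
    haveI := hF
    rw [Nat.cast_add, Nat.cast_one, ← add_assoc] at hF'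
    haveI := hF'
    have hS := F.shortComplexTruncLE_shortExact (a + n)
    have hle : ∀ j, j ≤ a + n → IsIso (homologyMap (F.ιTruncLE (a + n)) j) := fun j hj => by
      haveI := F.quasiIsoAt_ιTruncLE (a + n) j hj
      infer_instance
    refine lz_of_ses (S := F.shortComplexTruncLE (a + n)) (fun U => hs U _ hS) ?_ ?_
    · refine ih (F.truncLE (a + n)) a ?_ inferInstance fun j hj => ?_
      · rw [CochainComplex.isGE_iff]
        intro i hi
        rw [exactAt_iff_isZero_homology]
        exact (F.isZero_of_isGE a i hi).of_iso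
          (@asIso _ _ _ _ (homologyMap (F.ιTruncLE (a + n)) i) (hle i (by omega)))
      · by_cases hj' : j ≤ a + n
        · exact (lz_of_iso hq (DerivedCategory.Q.mapIso ((CochainComplex.singleFunctor C j).mapIso
            (@asIso _ _ _ _ (homologyMap (F.ιTruncLE (a + n)) j) (hle j hj'))))).2 (h j hj)
        · refine lz_of_isZero fun U => DerivedCategory.Q.map_isZero ((T.obj U).map_isZero
            ((CochainComplex.singleFunctor C j).map_isZero ?_))
          exact (F.truncLE (a + n)).isZero_of_isLE (a + n) j (by omega)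
    · refine (lz_of_quasiIso hq
        (F.shortComplexTruncLEX₃ToTruncGE (n₀ := a + n) (n₁ := a + n + 1) (h := rfl))
        inferInstance).2 ?_
      have h1 : (DerivedCategory.Q.obj (F.truncGE (a + n + 1))).IsGE (a + n + 1) :=
        (DerivedCategory.isGE_Q_obj_iff _ _).2 inferInstance
      have h2 : (DerivedCategory.Q.obj (F.truncGE (a + n + 1))).IsLE (a + n + 1) := by
        rw [DerivedCategory.isLE_Q_obj_iff, CochainComplex.isLE_iff]
        intro i hi
        rw [exactAt_iff_isZero_homology]
        haveI := F.quasiIsoAt_πTruncGE (a + n + 1) i hi.le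
        exact (F.isZero_of_isLE (a + n + 1) i hi).of_iso
          (asIso (homologyMap (F.πTruncGE (a + n + 1)) i)).symm
      obtain ⟨A, ⟨e⟩⟩ := DerivedCategory.exists_iso_singleFunctor_obj_of_isGE_of_isLE
        (DerivedCategory.Q.obj (F.truncGE (a + n + 1))) (a + n + 1)
      have e' : DerivedCategory.Q.obj ((CochainComplex.singleFunctor C (a + n + 1)).obj A) ≅
          DerivedCategory.Q.obj (F.truncGE (a + n + 1)) :=
        ((DerivedCategory.singleFunctorIsoCompQ C (a + n + 1)).app A).symm ≪≫ e.symm
      haveI := F.quasiIsoAt_πTruncGE (a + n + 1) (a + n + 1) le_rfl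
      have eA : A ≅ F.homology (a + n + 1) :=
        (singleObjHomologySelfIso (ComplexShape.up ℤ) (a + n + 1) A).symm ≪≫
          ((DerivedCategory.homologyFunctorFactors C (a + n + 1)).app _).symm ≪≫
            (DerivedCategory.homologyFunctor C (a + n + 1)).mapIso e' ≪≫
              (DerivedCategory.homologyFunctorFactors C (a + n + 1)).app _ ≪≫
                (asIso (homologyMap (F.πTruncGE (a + n + 1)) (a + n + 1))).symm
      refine (lz_of_iso hq e').1 ((lz_of_iso hq ?_).2 (h (a + n + 1) (by omega)))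
      exact DerivedCategory.Q.mapIso ((CochainComplex.singleFunctor C (a + n + 1)).mapIso eA)

end Devissage

end Groth.Agent.H88.Hom.LocallyZero

namespace Groth.Agent.H88.Hom.LocallyZero

variable {C : Type u} [Category.{v} C] [Abelian C] [HasDerivedCategory.{w} C]
  {E : Type u'} [Category.{v'} E] {J : GrothendieckTopology E}
  {T T' : E ⥤ CochainComplex C ℤ ⥤ CochainComplex C ℤ} {K : DerivedCategory C}

/-- `LZ` transports along isomorphisms natural in the object of the site. -/
lemma lz_iff_of_iso_natural {A B : CochainComplex C ℤ}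
    (e : T ⋙ (evaluation _ _).obj A ≅ T' ⋙ (evaluation _ _).obj B) :
    LZ J T K A ↔ LZ J T' K B := by
  suffices ∀ (T T' : E ⥤ CochainComplex C ℤ ⥤ CochainComplex C ℤ) (A B : CochainComplex C ℤ)
      (_ : T ⋙ (evaluation _ _).obj A ≅ T' ⋙ (evaluation _ _).obj B), LZ J T K A → LZ J T' K B from
    ⟨this T T' A B e, this T' T B A e.symm⟩
  intro T T' A B e h U α
  obtain ⟨S, hS, hS'⟩ := h U (DerivedCategory.Q.map (e.hom.app U) ≫ α)
  refine ⟨S, hS, fun V g hg => ?_⟩
  have n : (T.map g).app A ≫ e.hom.app U = e.hom.app V ≫ (T'.map g).app B := e.hom.naturality g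
  haveI : IsIso (DerivedCategory.Q.map (e.hom.app V)) := inferInstance
  rw [← cancel_epi (DerivedCategory.Q.map (e.hom.app V)), comp_zero, ← Category.assoc,
    ← Functor.map_comp, ← n, Functor.map_comp, Category.assoc]
  exact hS' V g hg

end Groth.Agent.H88.Hom.LocallyZero
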