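import Mathlib.Algebra.Homology.HomotopyCategory.MappingCone
import Mathlib.Algebra.Homology.HomotopyCategory.Acyclic
import Mathlib.Algebra.Homology.HomologySequenceLemmas
import Mathlib.Algebra.Homology.HomologicalComplexBiprod
import Mathlib.Algebra.Homology.HomologicalComplexAbelian
import Mathlib.CategoryTheory.Limits.Preserves.Shapes.Kernels

/-!
A right exact functor between categories of complexes which preserves termwise monomorphisms and
acyclic complexes preserves quasi-isomorphisms.
-/

universe v v' u u'

open CategoryTheory CategoryTheory.Limits HomologicalComplex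

namespace Groth.Agent.H88.Hom.QuasiIsoMap

variable {C : Type u} [Category.{v} C] [Abelian C] {D : Type u'} [Category.{v'} D] [Abelian D]

lemma quasiIso_of_mono_acyclic {A B : CochainComplex C ℤ} (i : A ⟶ B) [Mono i]
    (h : (cokernel i).Acyclic) : QuasiIso i := by
  have hS : (ShortComplex.mk i _ (cokernel.condition i)).ShortExact :=
    { exact := ShortComplex.exact_cokernel i }
  refine ⟨fun n => ?_⟩
  rw [quasiIsoAt_iff_isIso_homologyMap]
  obtain ⟨m, rfl⟩ : ∃ m, n = m + 1 := ⟨n - 1, by omega⟩
  haveI : Mono (homologyMap i (m + 1)) :=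
    (hS.homology_exact₁ m (m + 1) rfl).mono_g ((h m).isZero_homology.eq_of_src _ _)
  haveI : Epi (homologyMap i (m + 1)) :=
    (hS.homology_exact₂ (m + 1)).epi_f ((h (m + 1)).isZero_homology.eq_of_tgt _ _)
  exact isIso_of_mono_of_epi _

lemma acyclic_cokernel_of_quasiIso {A B : CochainComplex C ℤ} (i : A ⟶ B) [Mono i] [QuasiIso i] :
    (cokernel i).Acyclic := by
  have hS : (ShortComplex.mk i _ (cokernel.condition i)).ShortExact :=
    { exact := ShortComplex.exact_cokernel i }
  intro n
  rw [exactAt_iff_isZero_homology]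
  refine (hS.homology_exact₃ n (n + 1) rfl).isZero_X₂ ?_ ?_
  · have : Epi (homologyMap i n) := inferInstance
    exact (cancel_epi (homologyMap i n)).1 ((show homologyMap i n ≫ homologyMap (cokernel.π i) n = 0 by
      rw [← homologyMap_comp, cokernel.condition, homologyMap_zero]).trans comp_zero.symm)
  · have : Mono (homologyMap i (n + 1)) := inferInstance
    exact (cancel_mono (homologyMap i (n + 1))).1 ((hS.δ_comp n (n + 1) rfl).trans zero_comp.symm)

lemma acyclic_mappingCone_id (A : CochainComplex C ℤ) :
    (CochainComplex.mappingCone (𝟙 A)).Acyclic := by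
  intro n
  rw [exactAt_iff_isZero_homology, IsZero.iff_id_eq_zero, ← homologyMap_id]
  rw [(CochainComplex.mappingCone.homotopyToZeroOfId A).homologyMap_eq n, homologyMap_zero]

/-- Right exact functors preserving termwise monomorphisms and acyclicity preserve
quasi-isomorphisms. -/
theorem quasiIso_map (F : CochainComplex C ℤ ⥤ CochainComplex D ℤ) [F.Additive]
    [PreservesFiniteColimits F]
    (hmono : ∀ {A B : CochainComplex C ℤ} (f : A ⟶ B), (∀ n, Mono (f.f n)) → Mono (F.map f))
    (hac : ∀ A : CochainComplex C ℤ, A.Acyclic → (F.obj A).Acyclic)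
    {A B : CochainComplex C ℤ} (f : A ⟶ B) [QuasiIso f] : QuasiIso (F.map f) := by
  have key : ∀ {A B : CochainComplex C ℤ} (i : A ⟶ B) [Mono i], (cokernel i).Acyclic →
      QuasiIso (F.map i) := by
    intro A B i _ h
    haveI := hmono i fun n => inferInstanceAs (Mono ((eval C (.up ℤ) n).map i))
    refine quasiIso_of_mono_acyclic _ fun n => ?_
    refine ExactAt.of_iso ?_ (PreservesCokernel.iso F i)
    exact hac _ h n
  let K := CochainComplex.mappingCone (𝟙 A)
  let l : A ⟶ B ⊞ K := biprod.lift f (CochainComplex.mappingCone.inr (𝟙 A))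
  haveI : Mono l := by
    haveI : Mono (l ≫ biprod.snd) := by
      rw [show l ≫ biprod.snd = CochainComplex.mappingCone.inr (𝟙 A) from biprod.lift_snd _ _]
      haveI : ∀ n, Mono ((CochainComplex.mappingCone.inr (𝟙 A)).f n) := fun n => by
        haveI : Mono ((CochainComplex.mappingCone.inr (𝟙 A)).f n ≫
            (CochainComplex.mappingCone.snd (𝟙 A)).v n n (add_zero n)) := by
          rw [CochainComplex.mappingCone.inr_f_snd_v]
          infer_instance
        exact mono_of_mono _ ((CochainComplex.mappingCone.snd (𝟙 A)).v n n (add_zero n))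
      exact HomologicalComplex.mono_of_mono_f _ inferInstance
    exact mono_of_mono l biprod.snd
  have hK : K.Acyclic := acyclic_mappingCone_id A
  -- the inclusion of the first summand
  have hck : (cokernel (biprod.inl : B ⟶ B ⊞ K)).Acyclic := fun n =>
    ExactAt.of_iso (hK n)
      ((biprod.isCokernelInlCokernelFork B K).coconePointUniqueUpToIso
        (colimit.isColimit _))
  haveI : QuasiIso (biprod.inl : B ⟶ B ⊞ K) := quasiIso_of_mono_acyclic _ hck
  haveI : QuasiIso ((biprod.inl : B ⟶ B ⊞ K) ≫ biprod.fst) := by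
    rw [biprod.inl_fst]
    infer_instance
  haveI : QuasiIso (biprod.fst : B ⊞ K ⟶ B) :=
    quasiIso_of_comp_left (biprod.inl : B ⟶ B ⊞ K) biprod.fst
  haveI : QuasiIso (F.map (biprod.inl : B ⟶ B ⊞ K)) := key _ hck
  haveI : QuasiIso (F.map (biprod.inl : B ⟶ B ⊞ K) ≫ F.map biprod.fst) := by
    rw [← F.map_comp, biprod.inl_fst, F.map_id]
    infer_instance
  haveI : QuasiIso (F.map (biprod.fst : B ⊞ K ⟶ B)) :=
    quasiIso_of_comp_left (F.map (biprod.inl : B ⟶ B ⊞ K)) _
  haveI : QuasiIso (l ≫ biprod.fst) := by
    rw [biprod.lift_fst]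
    infer_instance
  haveI : QuasiIso l := quasiIso_of_comp_right l biprod.fst
  haveI : QuasiIso (F.map l) := key l (acyclic_cokernel_of_quasiIso l)
  rw [← biprod.lift_fst f (CochainComplex.mappingCone.inr (𝟙 A)), F.map_comp]
  change QuasiIso (F.map l ≫ F.map biprod.fst)
  infer_instance

end Groth.Agent.H88.Hom.QuasiIsoMap
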